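import Mathlib
import Cfsg.Agent.M23T.Cj0
import Cfsg.Agent.S2029

/-!
Maximal `E`-invariant 2-subgroups with non-trivial intersection are conjugate under `O_{3'}(C(E))`.
-/

set_option autoImplicit false
set_option linter.unusedSectionVars false

namespace Cfsg.Agent.M23T

open Subgroup Cfsg.Agent.GT Cfsg.Agent.LX Cfsg.Agent.Gr6

variable {G : Type*} [Group G] [Finite G] {E T T' I A B S Y Y' M : Subgroup G} {ζ b k s t t' : G}

/-- Conjugacy under `K3 E`. -/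
def Cj (E T T' : Subgroup G) : Prop := ∃ k ∈ K3 E, T' = cjs k T

theorem Cj.refl (E T : Subgroup G) : Cj E T T := ⟨1, one_mem _, (cjs_one T).symm⟩

theorem Cj.symm (h : Cj E T T') : Cj E T' T := by
  obtain ⟨k, hk, rfl⟩ := h
  exact ⟨k⁻¹, inv_mem hk, by rw [← cjs_mul, inv_mul_cancel, cjs_one]⟩

theorem Cj.trans (h : Cj E T T') (h' : Cj E T' A) : Cj E T A := by
  obtain ⟨k, hk, rfl⟩ := h
  obtain ⟨l, hl, rfl⟩ := h'
  exact ⟨l * k, mul_mem hl hk, (cjs_mul _ _ _).symm⟩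

theorem card_cjs (k : G) (T : Subgroup G) : Nat.card (cjs k T) = Nat.card T :=
  card_map_of_injective (MulAut.conj k).injective

/-- A counterexample with the largest intersection. -/
structure Ce (E T T' I : Subgroup G) : Prop where
  mx : Mx E T
  mx' : Mx E T'
  eq : I = T ⊓ T'
  ne : I ≠ ⊥
  nc : ¬ Cj E T T'
  max : ∀ A B, Mx E A → Mx E B → Nat.card I < Nat.card (A ⊓ B : Subgroup G) → Cj E A B

namespace Ce

theorem symm (c : Ce E T T' I) : Ce E T' T I :=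
  ⟨c.mx', c.mx, c.eq.trans (inf_comm _ _), c.ne, fun h => c.nc h.symm, c.max⟩

theorem le (c : Ce E T T' I) : I ≤ T := c.eq.le.trans inf_le_left

theorem inv (c : Ce E T T' I) : Inv E I := c.eq ▸ c.mx.1.inf c.mx'.1.2

theorem en (c : Ce E T T' I) : E ≤ normalizer (normalizer (I : Set G) : Set G) := c.inv.2.trans le_normalizer

theorem of_le (c : Ce E T T' I) (hA : Mx E A) (hB : Mx E B) (h : Nat.card I < Nat.card Y) (h1 : Y ≤ A) (h2 : Y ≤ B) :
    Cj E A B := c.max A B hA hB (h.trans_le (card_le_of_le (le_inf h1 h2)))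

theorem key (c : Ce E T T' I) (hA : Mx E A) (hB : Mx E B) (h1 : Y ≤ A) (h2 : Y' ≤ B) (l1 : I < Y) (l2 : I < Y')
    (hk : k ∈ K3 E) (hS : Inv E S) (s1 : Y ≤ S) (s2 : cjs k Y' ≤ S) : Cj E A B := by
  obtain ⟨C, hC, hS⟩ := hS.exists_mx
  refine ((c.of_le hA hC (PG.card_lt_of_lt l1) h1 (s1.trans hS)).trans
    (c.of_le hC (hB.cjs (pPrimeCoreOf_le _ hk)) ?_ (s2.trans hS) (map_mono h2))).trans (Cj.symm ⟨k, hk, rfl⟩)
  rw [card_cjs]; exact PG.card_lt_of_lt l2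

theorem lt (c : Ce E T T' I) : I < T ⊓ normalizer (I : Set G) := by
  have := c.mx.1.1.isNilpotent
  refine PG.lt_inf_normalizer (c.le.lt_of_ne fun e => c.nc ?_)
  have h : T ≤ T' := e.ge.trans c.symm.le
  rw [h.antisymm (c.mx.2 c.mx'.1 h)]; exact Cj.refl _ _

theorem cen (c2 : IsCharacteristicTwoType G) (c : Ce E T T' I) :
    normalizer (I : Set G) ⊓ centralizer (I : Set G) ≤ I := by
  have hq : Inv E (pCoreOf 2 (normalizer (I : Set G))) :=
    ⟨isPGroup_pCoreOf 2 _, c.inv.2.trans (le_normalizer_pCoreOf _)⟩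
  have hl : I ≤ pCoreOf 2 (normalizer (I : Set G)) := le_pCoreOf le_normalizer le_rfl c.inv.1
  rcases hl.eq_or_lt with e | l
  · have := S2029.inf_centralizer_le (c2.2 I c.inv.1 c.ne)
    rwa [← e] at this
  have st : ∀ {T T'}, Ce E T T' I → ∃ A, Mx E A ∧ Cj E T A ∧ pCoreOf 2 (normalizer (I : Set G)) ≤ A := fun c => by
    obtain ⟨A, hA, h⟩ := ((c.mx.1.inf c.en).sup hq (inf_le_right.trans (le_normalizer_pCoreOf _))).exists_mx
    exact ⟨A, hA, c.of_le c.mx hA (PG.card_lt_of_lt c.lt) inf_le_left (le_sup_left.trans h), le_sup_right.trans h⟩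
  obtain ⟨A, a1, a2, a3⟩ := st c
  obtain ⟨B, b1, b2, b3⟩ := st c.symm
  exact absurd ((a2.trans (c.of_le a1 b1 (PG.card_lt_of_lt l) a3 b3)).trans b2.symm) c.nc

theorem exists_t (h : Bad E ζ) (c : Ce E T T' I) : ∃ x ∈ E, x ∉ zpowers ζ ∧ ∃ t ∈ T ⊓ normalizer (I : Set G), t ∉ I ∧
    t * t ∈ I ∧ Commute x t := by
  have hi := c.mx.1.inf c.en
  have := mt (CopAct.le_of_centralizer_elt_le h.e9.elem.1
    (h.e9.elem.not_isCyclic (n := 2) h.e9.card le_rfl) hi.2 (h.e9.cop (not_three_dvd hi.1))) c.lt.not_ge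
  push Not at this
  obtain ⟨x, x1, x2, x3⟩ := this
  obtain ⟨u, u1, u2⟩ := SetLike.not_le_iff_exists.1 x3
  obtain ⟨n, hn⟩ := PG.exists_pow_pow_eq_one_of_mem hi.1 u1.1
  obtain ⟨j, j1, j2⟩ := PG.exists_pow_notMem_pow_mem u2 ⟨n, by rw [hn]; exact one_mem _⟩
  have cm : Commute x u := (mem_centralizer_singleton_iff.1 u1.2).symm
  refine ⟨x, x1, fun hx => u2 ?_, _, pow_mem u1.1 _, j1, by rwa [← sq], cm.pow_right _⟩
  have hu : u ∈ T ⊓ centralizer ({ζ} : Set G) := ⟨u1.1.1, mem_centralizer_singleton_iff.2 (Eq.symm ?_)⟩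
  · rw [h.fpf T c.mx.1, mem_bot] at hu
    exact hu ▸ one_mem _
  rcases zp3 (h.e9.pow h.mem) hx with rfl | rfl | rfl
  exacts [absurd rfl x2, cm, Commute.inv_left_iff.1 cm]

theorem fin (h : Bad E ζ) (c : Ce E T T' I) (hb : b ∈ E) (b1 : b ≠ 1) (hS : Inv E S) (s1 : I ≤ S)
    (s2 : S ≤ normalizer (I : Set G)) (t1 : t ∈ S) (t2 : t ∈ T) (t3 : t ∉ I) (hs : s ∈ S) (n : s ∉ I) (cm : Commute b s)
    (ht' : t' ∈ T' ⊓ normalizer (I : Set G)) (n' : t' ∉ I) (cm' : Commute b t') : False := by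
  obtain ⟨A, hA, a⟩ := hS.exists_mx
  have lt : ∀ {Y : Subgroup G} {y : G}, y ∈ Y → y ∉ I → I < Y ⊔ I := fun hy hn =>
    le_sup_right.lt_of_ne fun e => hn (e ▸ mem_sup_left hy)
  obtain ⟨k, hk, R, r1, r2, r3⟩ := h.same hb b1 c.inv c.inv.2 le_rfl (hS.inf (h.e9.norm_cen hb))
    ((c.mx'.1.inf c.en).inf (h.e9.norm_cen hb)) (inf_le_inf_right _ s2) (inf_le_inf_right _ inf_le_right)
  refine c.nc ((c.of_le c.mx hA (PG.card_lt_of_lt (lt (Y := S ⊓ T) ⟨t1, t2⟩ t3)) (sup_le inf_le_right c.le)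
    ((sup_le inf_le_left s1).trans a)).trans (c.key hA c.mx' ((sup_le inf_le_left s1).trans a)
    (sup_le (inf_le_left.trans inf_le_left) c.symm.le) (lt (mem_inf.2 ⟨hs, ?_⟩) n) (lt (mem_inf.2 ⟨ht', ?_⟩) n') hk r1 r2
    r3))
  exacts [mem_centralizer_singleton_iff.2 cm.symm, mem_centralizer_singleton_iff.2 cm'.symm]

end Ce

theorem Inv.sub (h : Inv E T) (M : Subgroup G) : Inv (E.subgroupOf M) (T.subgroupOf M) :=
  ⟨h.1.comap_subtype, fun _ he => mem_normalizer_iff.2 fun x => mem_normalizer_iff.1 (h.2 he) x⟩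

theorem Inv.up (hE : E ≤ M) {S : Subgroup M} (h : Inv (E.subgroupOf M) S) : Inv E (S.map M.subtype) :=
  ⟨h.1.map _, (map_subgroupOf_eq_of_le hE).ge.trans ((map_mono h.2).trans (le_normalizer_map _))⟩

theorem Bad.inv (h : Bad E ζ) : Bad E ζ⁻¹ :=
  ⟨h.e9, inv_mem h.mem, (orderOf_inv ζ).trans h.ord, h.max, fun T hT => by
    rw [← h.fpf T hT, ← centralizer_closure, ← centralizer_closure {ζ}, ← zpowers_eq_closure, ← zpowers_eq_closure,
      zpowers_inv], h.core⟩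

theorem Bad.ne (h : Bad E ζ) : ζ ≠ 1 := fun e => by simpa [e] using h.ord

theorem Ce.diff (c2 : IsCharacteristicTwoType G) (h : Bad E ζ) (c : Ce E T T' I) (hb : b ∈ E) (hbζ : b ∉ zpowers ζ)
    (ht : t ∈ T ⊓ normalizer (I : Set G)) (n : t ∉ I) (s : t * t ∈ I) (cm : Commute b t)
    (ht' : t' ∈ T' ⊓ normalizer (I : Set G)) (n' : t' ∉ I) (s' : t' * t' ∈ I) (cm' : Commute (b * ζ) t') : False := by
  obtain ⟨M, hM⟩ : ∃ M, M = closure ((I : Set G) ∪ {ζ, b, t, t'}) := ⟨_, rfl⟩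
  have sub : (I : Set G) ∪ {ζ, b, t, t'} ⊆ M := hM ▸ subset_closure
  have hI : I ≤ M := fun i hi => sub (.inl hi)
  have mζ : ζ ∈ M := sub (.inr (by simp))
  have mb : b ∈ M := sub (.inr (by simp))
  have mt : t ∈ M := sub (.inr (by simp))
  have mt' : t' ∈ M := sub (.inr (by simp))
  have hE : E ≤ M := by
    rw [← h.e9.sup_eq h.mem h.ne hb hbζ]; exact sup_le (zpowers_le.2 mζ) (zpowers_le.2 mb)
  have hN : M ≤ normalizer (I : Set G) := by
    rw [hM, closure_le]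
    rintro g (hg | rfl | rfl | rfl | rfl)
    exacts [le_normalizer hg, c.inv.2 h.mem, c.inv.2 hb, ht.2, ht'.2]
  have := normal_subgroupOf_of_le_normalizer hN
  obtain ⟨S, s1, s2, s3, u, u1, u2, u3⟩ := core (I := I.subgroupOf M) (E := E.subgroupOf M) (ζ := ⟨ζ, mζ⟩)
    (b := ⟨b, mb⟩) (t := ⟨t, mt⟩) (t' := ⟨t', mt'⟩)
    (fun x hx => c.cen c2 ⟨hN x.2, fun i hi => congrArg Subtype.val (hx ⟨i, hI hi⟩ hi)⟩)
    ⟨h.e9.elem.subgroupOf M, (Nat.card_congr (subgroupOfEquivOfLe hE).toEquiv).trans h.e9.card⟩ h.mem hb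
    (fun e => h.ne (congrArg Subtype.val e))
    (fun ⟨j, hj⟩ => hbζ ⟨j, congrArg Subtype.val hj⟩)
    (fun x hx x3 => h.max x (fun e he => congrArg Subtype.val (hx ⟨e, hE he⟩ he)) (congrArg Subtype.val x3))
    (fun S hS => eq_bot_iff.2 fun x hx => Subtype.ext ((h.fpf _ (hS.up hE)).le ⟨⟨x, hx.1, rfl⟩,
      mem_centralizer_singleton_iff.2 (congrArg Subtype.val (mem_centralizer_singleton_iff.1 hx.2))⟩))
    (by
      subst hM
      refine top_le_iff.1 ((closure_preimage_eq_top _).ge.trans (closure_mono ?_))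
      exact fun g hg => hg.imp id fun hg => by simpa [Subtype.ext_iff] using hg)
    (c.mx.1.sub M) (c.mx'.1.sub M) (comap_mono c.le) ht.1 ht'.1 n' s s' (Subtype.ext cm) (Subtype.ext cm')
  exact c.fin h (mul_mem hb h.mem) (fun e => hbζ (eq_inv_of_mul_eq_one_left e ▸ inv_mem (mem_zpowers ζ))) (s1.up hE)
    ((map_subgroupOf_eq_of_le hI).ge.trans (map_mono s2)) ((map_subtype_le S).trans hN) ⟨_, s3, rfl⟩ ht.1 n
    ⟨u, u1, rfl⟩ u2 (congrArg Subtype.val u3) ht' n' cm'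

theorem Bad.conj (c2 : IsCharacteristicTwoType G) (h : Bad E ζ) (hT : Mx E T) (hT' : Mx E T') (h0 : T ⊓ T' ≠ ⊥) :
    ∃ k ∈ K3 E, T' = cjs k T := by
  induction hn : Nat.card G - Nat.card (T ⊓ T' : Subgroup G) using Nat.strong_induction_on generalizing T T' with
  | _ n ih =>
  by_contra hc
  have c : Ce E T T' (T ⊓ T') := ⟨hT, hT', rfl, h0, hc, fun A B hA hB l => ih _ (by
    have := (A ⊓ B).card_le_card_group; omega) hA hB (fun e => by
      rw [e, card_bot] at l; have := Nat.card_pos (α := (T ⊓ T' : Subgroup G)); omega) rfl⟩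
  generalize T ⊓ T' = I at c
  obtain ⟨x, x1, x2, t, t1, t2, t3, t4⟩ := c.exists_t h
  obtain ⟨y, y1, y2, t', u1, u2, u3, u4⟩ := c.symm.exists_t h
  obtain ⟨d, rfl | rfl | rfl, hd⟩ := h.e9.cases h.mem h.ne x1 x2 y1 y2
  · exact c.fin h x1 (fun e => x2 (e ▸ one_mem _)) (hT.1.inf c.en) c.lt.le inf_le_right t1 t1.1 t2 t1 t2 t4 u1 u2
      (hd _ u4)
  · exact c.diff c2 h x1 x2 t1 t2 t3 t4 u1 u2 u3 (hd _ u4)
  · exact c.diff c2 h.inv x1 (by rwa [zpowers_inv]) t1 t2 t3 t4 u1 u2 u3 (hd _ u4)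

end Cfsg.Agent.M23T
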