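import Mathlib
import Cfsg.Agent.M23T.Cj
import Cfsg.Agent.GT.ThompsonBender
import Cfsg.Agent.GT.PGroupAlperin
import Cfsg.Agent.GT.PGroupRank

/-!
`O_{3'}(C(x))` has odd order for every element `x` of order 3.
-/

set_option autoImplicit false
set_option linter.unusedSectionVars false

namespace Cfsg.Agent.M23T

open Subgroup Cfsg.Agent.GT Cfsg.Agent.LX Cfsg.Agent.Gr6
open scoped commutatorElement

variable {G : Type*} [Group G] [Finite G] {E T T' U : Subgroup G} {ζ b c k u x : G}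

theorem Inv.cjn (h : Inv E T) (hk : k ∈ normalizer (E : Set G)) : Inv E (M23T.cjs k T) := by
  refine ⟨h.1.map _, fun e he => mem_normalizer_iff.2 fun x => ?_⟩
  have := h.2 (CopAct.conj_mem' (zpowers_le.2 hk) (mem_zpowers k) he)
  rw [mem_cjs, mem_cjs, mem_normalizer_iff.1 this]
  exact iff_of_eq (congrArg (· ∈ T) (by group))

theorem Mx.cjn (h : Mx E T) (hk : k ∈ normalizer (E : Set G)) : Mx E (M23T.cjs k T) := by
  refine ⟨h.1.cjn hk, fun S hS hle => ?_⟩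
  have h1 : T ≤ M23T.cjs k⁻¹ S := by
    rw [← cjs_one T, ← inv_mul_cancel k, cjs_mul]; exact map_mono hle
  have h2 := map_mono (f := (MulAut.conj k).toMonoidHom) (h.2 (hS.cjn (inv_mem hk)) h1)
  change M23T.cjs k (M23T.cjs k⁻¹ S) ≤ _ at h2
  rwa [← cjs_mul, mul_inv_cancel, cjs_one] at h2

theorem cjs_ne (h : T ⊓ centralizer ({c} : Set G) ≠ ⊥) (u : G) :
    cjs u T ⊓ centralizer ({u * c * u⁻¹} : Set G) ≠ ⊥ := fun e => h (eq_bot_iff.2 fun t ht => by
  have : u * t * u⁻¹ ∈ cjs u T ⊓ centralizer ({u * c * u⁻¹} : Set G) :=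
    ⟨⟨t, ht.1, rfl⟩, mem_centralizer_singleton_iff.2 (by
      rw [conj_mul, conj_mul, mem_centralizer_singleton_iff.1 ht.2])⟩
  rw [e, mem_bot] at this
  simpa using this)

theorem E9.max (hb : ¬ Good b) (h : E9 E) (hE : E ≤ centralizer ({b} : Set G)) (hx : x ∈ centralizer (E : Set G))
    (hxb : x ∈ centralizer ({b} : Set G)) (x3 : x ^ 3 = 1) : x ∈ E := by
  by_contra hn
  have h1 := (not_not.1 hb).card_le ((h.elem.sup_zpowers x3 hx).subgroupOf (centralizer ({b} : Set G)))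
  rw [Nat.card_congr (subgroupOfEquivOfLe (sup_le hE (zpowers_le.2 hxb))).toEquiv,
    PG.card_sup_zpowers Nat.prime_three (centralizer_le_normalizer _ hx) hn (by rw [x3]; exact one_mem _), h.card] at h1
  omega

theorem eq_bot_of_odd {X : Subgroup G} (hT : IsPGroup 2 T) (hX : Odd (Nat.card X)) (h : T ≤ X) : T = ⊥ := by
  obtain ⟨n, hn⟩ := hT.exists_card_eq
  exact eq_bot_of_card_eq _ (Nat.eq_one_of_dvd_coprimes ((Nat.coprime_two_left.2 hX).pow_left n) (hn ▸ dvd_rfl)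
    (card_dvd_of_le h))

theorem H0.bad (h : H0 G) (hb : ¬ Good b) (hζ : Good ζ) (ζ1 : ζ ≠ 1) (e9 : E9 E) (mb : b ∈ E) (mζ : ζ ∈ E) :
    Bad E ζ := by
  have le : ∀ {c}, c ∈ E → E ≤ centralizer ({c} : Set G) := fun hc =>
    e9.elem.le_centralizer.trans (centralizer_le (Set.singleton_subset_iff.2 hc))
  have max : ∀ x ∈ centralizer (E : Set G), x ^ 3 = 1 → x ∈ E := fun x hx =>
    e9.max hb (le mb) hx (centralizer_le (Set.singleton_subset_iff.2 mb) hx)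
  have core : ∀ c ∈ E, c ≠ 1 → ∀ T, Inv E T → T ≤ centralizer ({c} : Set G) → T ≤ O3 c := fun c hc c1 T hT hl =>
    TB.le_pPrimeCoreOf (by decide) (h.con c (e9.elem.orderOf_eq hc c1)) (le hc) hl e9.elem.isPGroup
      (Nat.prime_three.coprime_iff_not_dvd.2 (not_three_dvd hT.1)).symm hT.2 fun x hx x3 => hT.2 (max x hx.2 x3)
  have o := e9.elem.orderOf_eq mζ ζ1
  exact ⟨e9, mζ, o, max, fun T hT => eq_bot_of_odd hT.1.to_inf_left (h.good ζ o hζ)
    (core ζ mζ ζ1 _ (hT.inf (e9.norm_cen mζ)) inf_le_right), core⟩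

theorem Bad.cj (c2 : IsCharacteristicTwoType G) (h : Bad E ζ) (hT : Mx E T) (hT' : Mx E T') (hc : c ∈ E) (c1 : c ≠ 1)
    (h1 : T ⊓ centralizer ({c} : Set G) ≠ ⊥) (h2 : T' ⊓ centralizer ({c} : Set G) ≠ ⊥) : Cj E T T' := by
  obtain ⟨k, hk, S, s1, s2, s3⟩ := h.same hc c1 (I := ⊥) (N := ⊤) ⟨.of_bot, le_normalizer_of_normal⟩ le_top
    le_normalizer_of_normal (hT.1.inf (h.e9.norm_cen hc)) (hT'.1.inf (h.e9.norm_cen hc)) (inf_le_inf_right _ le_top)
    (inf_le_inf_right _ le_top)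
  rw [sup_bot_eq] at s2 s3
  obtain ⟨A, hA, a⟩ := s1.exists_mx
  have e1 : Cj E T A := h.conj c2 hT hA (ne_bot_of_le_ne_bot h1 (le_inf inf_le_left (s2.trans a)))
  have e2 : Cj E A (cjs k T') := h.conj c2 hA (hT'.cjs (pPrimeCoreOf_le _ hk)) (ne_bot_of_le_ne_bot
    (mt (map_eq_bot_iff_of_injective _ (MulAut.conj k).injective).1 h2) (le_inf (s3.trans a) (map_mono inf_le_left)))
  exact (e1.trans e2).trans (Cj.symm ⟨k, hk, rfl⟩)

theorem Bad.two (c2 : IsCharacteristicTwoType G) (h : Bad E ζ) (hT : Mx E T) (h0 : T ≠ ⊥) (hb : b ∈ E)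
    (hbζ : b ∉ zpowers ζ) (h1 : T ⊓ centralizer ({b * ζ} : Set G) = ⊥) : T ⊓ centralizer ({b * ζ⁻¹} : Set G) ≠ ⊥ := by
  intro h2
  have hl : T ≤ centralizer ({b} : Set G) := by
    refine CopAct.le_of_centralizer_elt_le h.e9.elem.1 (h.e9.elem.not_isCyclic (n := 2) h.e9.card le_rfl) hT.1.2
      (h.e9.cop (not_three_dvd hT.1.1)) fun a ha a1 t ht => ?_
    have cm : Commute a t := (mem_centralizer_singleton_iff.1 ht.2).symm
    have k : ∀ {c}, T ⊓ centralizer ({c} : Set G) = ⊥ → Commute c t → t ∈ centralizer ({b} : Set G) := fun e hc => by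
      rw [mem_bot.1 (e.le ⟨ht.1, mem_centralizer_singleton_iff.2 hc.symm⟩)]; exact one_mem _
    by_cases hz : a ∈ zpowers ζ
    · refine k (h.fpf T hT.1) ?_
      rcases zp3 (h.e9.pow h.mem) hz with rfl | rfl | rfl
      exacts [absurd rfl a1, cm, Commute.inv_left_iff.1 cm]
    obtain ⟨d, rfl | rfl | rfl, hd⟩ := h.e9.cases h.mem h.ne hb hbζ ha hz
    exacts [mem_centralizer_singleton_iff.2 (hd t cm).symm, k h1 (hd t cm), k h2 (hd t cm)]
  have hq : pCoreOf 2 (normalizer (T : Set G)) ≤ T := hT.2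
    ⟨isPGroup_pCoreOf 2 _, hT.1.2.trans (le_normalizer_pCoreOf _)⟩ (le_pCoreOf le_normalizer le_rfl hT.1.1)
  have := (S2029.faithful (p := 3) (by decide) c2 hT.1.1 h0 h.e9.elem.isPGroup hT.1.2).le
    ⟨hb, fun t ht => mem_centralizer_singleton_iff.1 (hl (hq ht))⟩
  exact hbζ (mem_bot.1 this ▸ one_mem _)

/-- A maximal invariant subgroup that is normalised by `u` as well. -/
theorem Bad.fixed (c2 : IsCharacteristicTwoType G) (h : Bad E ζ) (hT : Mx E T) (hb : b ∈ E) (hbζ : b ∉ zpowers ζ)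
    (h0 : T ⊓ centralizer ({b} : Set G) ≠ ⊥) (hu : u ∈ normalizer (E : Set G)) (u3 : u ^ 3 = 1) (uζ : Commute u ζ)
    (ub : u * b * u⁻¹ = b * ζ) : ∃ S, Inv E S ∧ S ≠ ⊥ ∧ u ∈ normalizer (S : Set G) := by
  have T0 : T ≠ ⊥ := ne_bot_of_le_ne_bot h0 inf_le_left
  have ⟨k, hk, e⟩ : Cj E T (cjs u T) := by
    by_cases h1 : T ⊓ centralizer ({b * ζ} : Set G) = ⊥
    · refine h.cj c2 hT (hT.cjn hu) hb (fun e => hbζ (e ▸ one_mem _)) h0 ?_
      have := cjs_ne (h.two c2 hT T0 hb hbζ h1) u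
      rwa [← conj_mul, ub, uζ.inv_right.eq, mul_inv_cancel_right, mul_inv_cancel_right] at this
    · exact h.cj c2 hT (hT.cjn hu) (mul_mem hb h.mem)
        (fun e => hbζ (eq_inv_of_mul_eq_one_left e ▸ inv_mem (mem_zpowers ζ))) h1 (ub ▸ cjs_ne h0 u)
  have hn : zpowers u ≤ normalizer (K3 E : Set G) := (CopAct.le_normalizer_centralizer (zpowers_le.2 hu)).trans
    (normalizer_le_normalizer_pPrimeCoreOf _)
  obtain ⟨l, hl, hS⟩ := CopAct.exists_invariant_conj hn (CopAct.coprime_of_isPGroup_left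
    (IsElementaryAbelian.zpowers u3).isPGroup (Nat.prime_three.coprime_iff_not_dvd.1
      (coprime_card_pPrimeCoreOf 3 _).symm)) (.inl (CopAct.isSolvable_zpowers u)) (P := T) fun a ha => by
    change Cj E T (cjs a T)
    rcases zp3 u3 ha with rfl | rfl | rfl
    · exact ⟨1, one_mem _, rfl⟩
    · exact ⟨k, hk, e⟩
    · exact ⟨_, CopAct.conj_mem' hn (mem_zpowers u) (inv_mem hk), by
        rw [cjs_mul, cjs_mul, e, ← cjs_mul k⁻¹, inv_mul_cancel, cjs_one]⟩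
  exact ⟨cjs l T, hT.1.cjs (pPrimeCoreOf_le _ hl),
    mt (map_eq_bot_iff_of_injective _ (MulAut.conj l).injective).1 T0, hS (mem_zpowers u)⟩

theorem H0.kill (h : H0 G) (P : Sylow 3 G) (hU : U ≤ P) (e9 : E9 U) (hg : ∀ u ∈ U, Good u) (hζ : ζ ∈ U) (ζ1 : ζ ≠ 1)
    (hc : ζ ∈ centralizer ((P : Subgroup G) : Set G)) (hk : ⁅(P : Subgroup G), U⁆ ≤ zpowers ζ) (hT : Inv U T)
    (hf : T ⊓ centralizer ({ζ} : Set G) = ⊥) : T = ⊥ := by
  by_contra h0
  obtain ⟨u, u1, u2, u3⟩ := CopAct.exists_inf_centralizer_ne_bot e9.elem.1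
    (e9.elem.not_isCyclic (n := 2) e9.card le_rfl) hT.2 (e9.cop (not_three_dvd hT.1)) h0
  have hY := hT.inf (e9.norm_cen u1)
  obtain ⟨v, v1, v2, v3⟩ := PG.exists_mem_ne_one_pow_eq_one hY.1.to_inf_left
    (PG.inf_centralizer_ne_bot_of_isPGroup hY.1 hY.1 le_normalizer u3)
  have w1 := CopAct.conj_mem hY.2 hζ v1.1
  have w2 := CopAct.conj_mem hY.2 hζ w1
  have ζ3 : ζ * ζ * ζ = 1 := by rw [← pow_three', e9.pow hζ]
  have hp : v * (ζ * v * ζ⁻¹) * (ζ * (ζ * v * ζ⁻¹) * ζ⁻¹) = 1 := by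
    refine mem_bot.1 (hf.le ⟨mul_mem (mul_mem v1.1.1 w1.1) w2.1, mem_centralizer_singleton_iff.2 ?_⟩)
    have e : ζ * (v * (ζ * v * ζ⁻¹) * (ζ * (ζ * v * ζ⁻¹) * ζ⁻¹)) =
        ζ * v * ζ⁻¹ * (ζ * (ζ * v * ζ⁻¹) * ζ⁻¹) * (ζ * ζ * ζ * v * (ζ * ζ * ζ)⁻¹) * ζ := by group
    rw [e, ζ3, one_mul, inv_one, mul_one, v1.2 _ (mul_mem w1 w2), mul_assoc v]
  have o := e9.elem.orderOf_eq u1 u2
  have mζ : ζ ∈ centralizer ({u} : Set G) := mem_centralizer_singleton_iff.2 (e9.elem.comm hζ u1)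
  have hP : IsPGroup 3 (centralizer ({u} : Set G) ⊓ P : Subgroup G) := P.2.to_inf_right
  obtain ⟨R, hR⟩ := (hP.comap_subtype (K := centralizer ({u} : Set G))).exists_le_sylow
  have hQ : IsPGroup 3 ((R : Subgroup _).map (centralizer ({u} : Set G)).subtype) := R.2.map _
  have l : centralizer ({u} : Set G) ⊓ P ≤ (R : Subgroup _).map (centralizer ({u} : Set G)).subtype :=
    (map_subgroupOf_eq_of_le inf_le_left).ge.trans (map_mono hR)
  have hn : (R : Subgroup _).map (centralizer ({u} : Set G)).subtype ≤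
      normalizer ((centralizer ({u} : Set G) ⊓ P : Subgroup G) : Set G) := by
    generalize (R : Subgroup _).map (centralizer ({u} : Set G)).subtype = Q at hQ l
    have i1 := PG.relIndex_centralizer_le (H := P) (B := zpowers ζ) fun g hg => hk (commutator_mem_commutator hg u1)
    have i2 := PG.relIndex_mul_card_inf (centralizer ({u} : Set G)) P
    have i3 := PG.relIndex_mul_card l
    obtain ⟨Q', hQ'⟩ := hQ.exists_le_sylow
    have i4 := (card_le_of_le hQ').trans_eq (Nat.card_congr (Q'.equiv P).toEquiv)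
    rw [Nat.card_zpowers, e9.elem.orderOf_eq hζ ζ1] at i1
    have i5 := Nat.le_of_mul_le_mul_right (i3.le.trans (i4.trans (i2.ge.trans (Nat.mul_le_mul_right _ i1)))) Nat.card_pos
    obtain ⟨n, hn⟩ := PG.relIndex_eq_pow_of_isPGroup hQ (centralizer ({u} : Set G) ⊓ P)
    rw [hn] at i5
    obtain rfl | rfl : n = 0 ∨ n = 1 := by
      have := (Nat.pow_le_pow_iff_right (by decide : 1 < 3)).1 (i5.trans_eq (pow_one 3).symm); omega
    · exact (relIndex_eq_one.1 hn).trans le_normalizer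
    · exact PG.le_normalizer_of_relIndex_prime hQ l hn
  refine v2 (congrArg Subtype.val (quad (h.con u o) (by rw [← card_pPrimeCoreOf]; exact h.good u o (hg u u1)) R
    (ζ := ⟨ζ, mζ⟩) (v := ⟨v, v1.1.2⟩) (fun y hy => Subtype.ext ?_) (Subtype.ext (e9.pow hζ))
    (Subtype.ext (by rwa [sq] at v3)) (Subtype.ext (v1.2 _ w1).symm) (Subtype.ext hp)))
  exact hc _ (CopAct.conj_mem hn ⟨y, hy, rfl⟩ ⟨mζ, hU hζ⟩).2

theorem H0.odd (h : H0 G) (x : G) (hx : orderOf x = 3) : Odd (Nat.card (O3 x)) := by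
  by_cases hg : Good x
  · exact h.good x hx hg
  have x3 : x ^ 3 = 1 := hx ▸ pow_orderOf_eq_one x
  obtain ⟨P, hP⟩ := (IsElementaryAbelian.zpowers x3).isPGroup.exists_le_sylow
  have xP : x ∈ (P : Subgroup G) := hP (mem_zpowers x)
  obtain ⟨U, u1, u2, u3, u4⟩ := h.nrm P
  obtain ⟨z, z1, z2, z3⟩ := PG.exists_mem_ne_one_pow_eq_one u2.elem.isPGroup.to_inf_left
    (PG.inf_centralizer_ne_bot_of_isPGroup u2.elem.isPGroup P.2 u3 fun e => by simpa [e] using u2.card)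
  have hz : zpowers z ≤ U ⊓ centralizer ((P : Subgroup G) : Set G) := zpowers_le.2 z1
  have hk : ⁅(P : Subgroup G), U⁆ ≤ zpowers z := by
    rw [commutator_comm]
    refine (PG.commutator_le_of_relIndex_prime u2.elem.isPGroup P.2 u3 ((le_centralizer_iff.1
      (hz.trans inf_le_right)).trans (centralizer_le_normalizer _)) (hz.trans inf_le_left) ?_).1
    have := PG.relIndex_mul_card (hz.trans inf_le_left)
    rw [Nat.card_zpowers, u2.elem.orderOf_eq z1.1 z2, u2.card] at this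
    omega
  obtain ⟨u, hu, un⟩ : ∃ u ∈ U, u ∉ centralizer ({x} : Set G) := SetLike.not_le_iff_exists.1 fun hl =>
    hg (u4 x (u2.max hg hl (fun u hu => mem_centralizer_singleton_iff.1 (hl hu)) (mem_centralizer_singleton_iff.2 rfl) x3))
  obtain ⟨ζ, hζ⟩ : ∃ ζ, ζ = ⁅x⁻¹, u⁆ := ⟨_, rfl⟩
  have ub : u * x * u⁻¹ = x * ζ := by rw [hζ, commutatorElement_def]; group
  have mz : ζ ∈ zpowers z := hζ ▸ hk (commutator_mem_commutator (inv_mem xP) hu)
  have ζ1 : ζ ≠ 1 := fun e => un (mem_centralizer_singleton_iff.2 (by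
    rw [e, mul_one] at ub; exact mul_inv_eq_iff_eq_mul.1 ub))
  have hk' : ⁅(P : Subgroup G), U⁆ ≤ zpowers ζ := by
    rcases zp3 z3 mz with e | e | e
    exacts [absurd e ζ1, e ▸ hk, by rwa [e, zpowers_inv]]
  obtain ⟨mζ, cζ⟩ := hz mz
  have xζ : x ∉ zpowers ζ := fun e => hg (u4 x (zpowers_le.2 mζ e))
  have cx : x ∈ centralizer (zpowers ζ : Set G) := le_centralizer_iff.1 (zpowers_le.2 cζ) xP
  have e9 : E9 (zpowers ζ ⊔ zpowers x) := ⟨(IsElementaryAbelian.zpowers (u2.pow mζ)).sup_zpowers x3 cx, by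
    rw [PG.card_sup_zpowers Nat.prime_three (centralizer_le_normalizer _ cx) xζ (by rw [x3]; exact one_mem _),
      Nat.card_zpowers, u2.elem.orderOf_eq mζ ζ1]⟩
  have hEP : zpowers ζ ⊔ zpowers x ≤ P := sup_le (zpowers_le.2 (u1 mζ)) hP
  have mx : x ∈ zpowers ζ ⊔ zpowers x := mem_sup_right (mem_zpowers x)
  have mζ' : zpowers ζ ≤ zpowers ζ ⊔ zpowers x := le_sup_left
  generalize zpowers ζ ⊔ zpowers x = E at e9 hEP mx mζ'
  have hb := h.bad hg (u4 ζ mζ) ζ1 e9 mx (mζ' (mem_zpowers ζ))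
  obtain ⟨T, t1, t2, t3, t4⟩ := CopAct.exists_invariant_sylowIn (K := O3 x)
    ((e9.norm_cen mx).trans (normalizer_le_normalizer_pPrimeCoreOf _))
    (e9.cop (Nat.prime_three.coprime_iff_not_dvd.1 (coprime_card_pPrimeCoreOf 3 _).symm))
    (.inl (CopAct.isSolvable_of_isPGroup e9.elem.isPGroup)) 2
  by_cases T0 : T = ⊥
  · rw [T0, relIndex_bot_left] at t3
    exact Nat.not_even_iff_odd.1 (mt even_iff_two_dvd.1 t3)
  obtain ⟨A, hA, a⟩ := Inv.exists_mx ⟨t2, t4⟩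
  obtain ⟨S, s1, s2, s3⟩ := hb.fixed h.c2 hA mx xζ (ne_bot_of_le_ne_bot T0 (le_inf a (t1.trans (pPrimeCoreOf_le _))))
    (PG.mem_normalizer_of_commutator_mem fun g hg => mζ' (hk' (commutator_comm U _ ▸
      commutator_mem_commutator hu (hEP hg)))) (u2.pow hu) (u2.elem.comm hu mζ) ub
  refine absurd (h.kill P u1 u2 u4 mζ ζ1 cζ hk' ⟨s1.1, ?_⟩ (hb.fpf S s1)) s2
  rw [← u2.sup_eq mζ ζ1 hu fun e => un (mem_centralizer_singleton_iff.2 (cx u e))]
  exact sup_le (mζ'.trans s1.2) (zpowers_le.2 s3)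

end Cfsg.Agent.M23T
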