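import Mathlib
import Cfsg.Agent.M23T.Defs
import Cfsg.Agent.S2934
import Cfsg.Agent.Spor.ESOdd
import Cfsg.Agent.Spor.ESLarge
import Cfsg.Agent.GT.TransferSylow

/-!
Fixed points of elements of order 3 on the extraspecial group `O₂(C(z))`.
-/

set_option autoImplicit false
set_option linter.unusedSectionVars false

namespace Cfsg.Agent.M23T

open Subgroup Cfsg.Agent.GT Cfsg.Agent.LX Cfsg.Agent.Gr6 Cfsg.Agent.Spor

variable {G : Type*} [Group G] [Finite G] {z : G}

namespace Fix

variable {x c a b y : G} {E U : Subgroup G}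

theorem zc (h : Commute a b) : a ∈ centralizer (zpowers b : Set G) := by
  rw [mem_centralizer_iff]
  rintro _ ⟨k, rfl⟩
  exact (h.zpow_right k).eq.symm

theorem cancel (h : Commute a c) (k : Commute (a * b) c) : Commute b c := by
  simpa using h.inv_left.mul_left k

theorem step {p : ℕ} (hp : p.Prime) (hU : IsElementaryAbelian p U) (ha : a ^ p = 1)
    (hc : a ∈ centralizer (U : Set G)) (hn : a ∉ U) :
    IsElementaryAbelian p (U ⊔ zpowers a : Subgroup G) ∧
      Nat.card (U ⊔ zpowers a : Subgroup G) = p * Nat.card U :=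
  ⟨hU.sup_zpowers ha hc, PG.card_sup_zpowers hp (centralizer_le_normalizer _ hc) hn (ha ▸ one_mem _)⟩

theorem four_gp (h1 : z ≠ 1) (h2 : z * z = 1) (ha : a * a = 1) (hc : Commute a z) (n1 : a ≠ 1) (n2 : a ≠ z) :
    IsElementaryAbelian 2 (zpowers z ⊔ zpowers a : Subgroup G) ∧
      Nat.card (zpowers z ⊔ zpowers a : Subgroup G) = 4 := by
  have := step Nat.prime_two (IsElementaryAbelian.zpowers (x := z) (by rw [pow_two, h2])) (by rw [pow_two, ha])
    (zc hc) fun k => ((mem_zpowers_iff_of_sq h2).1 k).elim n1 n2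
  rwa [Nat.card_zpowers, orderOf_eq_prime (p := 2) (by rw [pow_two, h2]) h1] at this

theorem no4 (h : H3 G) (hE : E9 E) (h1 : z ≠ 1) (h2 : z * z = 1) (hz : z ∈ centralizer (E : Set G))
    (ha : a * a = 1) (hc : Commute a z) (haE : a ∈ centralizer (E : Set G)) : a = 1 ∨ a = z := by
  by_contra hn
  obtain ⟨e, k⟩ := four_gp h1 h2 ha hc (fun k => hn (.inl k)) (fun k => hn (.inr k))
  have := h.two E hE _ e (sup_le (zpowers_le.2 hz) (zpowers_le.2 haE))
  omega

/-- No elementary abelian group of order 8 in `C(x)`; `w` separates `b` from `⟨z, a⟩`. -/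
theorem no8 (h : H3 G) (hx : orderOf x = 3) (h1 : z ≠ 1) (h2 : z * z = 1) (ha : a * a = 1) (hb : b * b = 1)
    (haz : Commute a z) (hbz : Commute b z) (hba : Commute b a) (hz : Commute x z) (hxa : Commute x a)
    (hxb : Commute x b) (n1 : a ≠ 1) (n2 : a ≠ z) : b = 1 ∨ b = z ∨ b = a ∨ b = z * a := by
  obtain ⟨e, k⟩ := four_gp h1 h2 ha haz n1 n2
  by_cases hm : b ∈ zpowers z ⊔ zpowers a
  · obtain ⟨u, hu, v, hv, rfl⟩ := (PG.mem_sup_of_le_normalizer (zpowers_le.2
      (centralizer_le_normalizer _ (zc haz)))).1 hm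
    rcases (mem_zpowers_iff_of_sq h2).1 hu with rfl | rfl <;>
      rcases (mem_zpowers_iff_of_sq ha).1 hv with rfl | rfl <;> simp
  · exfalso
    have hc : b ∈ centralizer ((zpowers z ⊔ zpowers a : Subgroup G) : Set G) :=
      le_centralizer_iff.1 (sup_le (zpowers_le.2 (zc hbz.symm)) (zpowers_le.2 (zc hba.symm))) (mem_zpowers b)
    obtain ⟨e', k'⟩ := step Nat.prime_two e (by rw [pow_two, hb]) hc hm
    have m : ∀ u, Commute x u → zpowers u ≤ centralizer ({x} : Set G) := fun u hu =>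
      zpowers_le.2 (mem_centralizer_singleton_iff.2 hu.eq.symm)
    have := h.four x hx _ e' (sup_le (sup_le (m _ hz) (m _ hxa)) (m _ hxb))
    omega

theorem e9 (hx : orderOf x = 3) (hc : c ^ 3 = 1) (hn : c ∉ zpowers x) (hxc : Commute x c) :
    E9 (zpowers x ⊔ zpowers c : Subgroup G) := by
  have := step Nat.prime_three (IsElementaryAbelian.zpowers (x := x) (hx ▸ pow_orderOf_eq_one x)) hc
    (zc hxc.symm) hn
  rw [Nat.card_zpowers, hx] at this
  exact ⟨this.1, this.2⟩

theorem cen2 (h1 : Commute a x) (h2 : Commute a c) :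
    a ∈ centralizer ((zpowers x ⊔ zpowers c : Subgroup G) : Set G) :=
  le_centralizer_iff.1 (sup_le (zpowers_le.2 (zc h1.symm)) (zpowers_le.2 (zc h2.symm))) (mem_zpowers a)

theorem norm_Q (bg : WP.Bg z) (hc : Commute z c) : c ∈ normalizer (QQ z : Set G) :=
  mem_normalizer_fintype (bg.lg.norm c hc)

/-- Part (a). -/
theorem fix_a (h : H3 G) (bg : WP.Bg z) (hx : orderOf x = 3) (hc : c ^ 3 = 1) (hn : c ∉ zpowers x)
    (hxc : Commute x c) (hzx : Commute z x) (hzc : Commute z c) (hy : y ∈ QQ z) (hyy : y * y = 1)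
    (hxy : Commute x y) : y = 1 ∨ y = z := by
  by_contra hne
  have n1 : y ≠ 1 := fun k => hne (.inl k)
  have n2 : y ≠ z := fun k => hne (.inr k)
  have hE := e9 hx hc hn hxc
  have z1 := bg.ne_one
  have z2 := bg.sq
  have zE := cen2 hzx hzc
  have c3 : c * c * c = 1 := by rw [← hc, pow_succ, pow_two]
  have ci : c⁻¹ = c * c := inv_eq_of_mul_eq_one_left c3
  have cz : c * z * c⁻¹ = z := by rw [← hzc.eq, mul_inv_cancel_right]
  have cm : ∀ u v : G, c * (u * v) * c⁻¹ = c * u * c⁻¹ * (c * v * c⁻¹) := fun u v => by group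
  obtain ⟨y1, e1⟩ : ∃ y1, y1 = c * y * c⁻¹ := ⟨_, rfl⟩
  obtain ⟨y2, e2⟩ : ∃ y2, y2 = c * y1 * c⁻¹ := ⟨_, rfl⟩
  have e0 : y = c * y2 * c⁻¹ := by
    rw [e2, e1]
    calc y = (c * c * c) * y * (c * c * c)⁻¹ := by rw [c3]; group
      _ = _ := by group
  have q1 : y1 ∈ QQ z := e1 ▸ bg.lg.norm c hzc y hy
  have q2 : y2 ∈ QQ z := e2 ▸ bg.lg.norm c hzc y1 q1
  have s1 : y1 * y1 = 1 := by rw [e1, ← cm, hyy]; group
  have s2 : y2 * y2 = 1 := by rw [e2, ← cm, s1]; group
  have x1 : Commute x y1 := e1 ▸ (hxc.mul_right hxy).mul_right hxc.inv_right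
  have x2 : Commute x y2 := e2 ▸ (hxc.mul_right x1).mul_right hxc.inv_right
  have Z : ∀ u ∈ QQ z, ∀ v, u * (z * v) = z * (u * v) := fun u hu v => by
    rw [← mul_assoc, ← bg.es.z_comm u hu, mul_assoc]
  have ZZ := bg.es.z_mul_z_mul
  have a01 : y * y1 = z * (y1 * y) := by
    refine (bg.es.comm y hy y1 q1).resolve_left fun k => ?_
    rcases no8 h hx z1 z2 hyy s1 (bg.comm hy).symm (bg.comm q1).symm (show Commute y y1 from k).symm hzx.symm
      hxy x1 n1 n2 with l | l | l | l
    · exact n1 (by rw [e0, e2, l]; group)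
    · exact n2 (by rw [e0, e2, l, cz, cz])
    · refine hne (no4 h hE z1 z2 zE hyy (bg.comm hy).symm (cen2 hxy.symm ?_))
      rw [e1, mul_inv_eq_iff_eq_mul] at l
      exact l.symm
    · have l2 : y2 = y := by rw [e2, l, cm, cz, ← e1, l, ZZ]
      rw [l2, ← e1, l] at e0
      exact z1 (by simpa using e0.symm)
  have a12 : y1 * y2 = z * (y2 * y1) := by
    have := congrArg (fun u => c * u * c⁻¹) a01
    simp only [cm, cz, ← e1, ← e2] at this
    exact this
  have a20 : y2 * y = z * (y * y2) := by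
    have := congrArg (fun u => c * u * c⁻¹) a12
    simp only [cm, cz, ← e0, ← e2] at this
    exact this
  have a10 : y1 * y = z * (y * y1) := by rw [a01, ZZ]
  have a21 : y2 * y1 = z * (y1 * y2) := by rw [a12, ZZ]
  obtain ⟨w, ew⟩ : ∃ w, w = y * (y1 * y2) := ⟨_, rfl⟩
  have qw : w ∈ QQ z := ew ▸ mul_mem hy (mul_mem q1 q2)
  have r : y1 * (y2 * y) = w := by rw [a20, Z y1 q1, ← mul_assoc y1, a10, mul_assoc z, ZZ, mul_assoc, ew]
  have cw : c * w * c⁻¹ = w := by
    conv_lhs => rw [ew, cm, cm, ← e1, ← e2, ← e0, r]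
  have w0 : w * y = y * w := by
    conv_lhs => rw [ew, mul_assoc, mul_assoc, r]
  have w1 : w * y1 = y1 * w := by
    have := congrArg (fun u => c * u * c⁻¹) w0
    simpa only [cm, cw, ← e1] using this
  have ww : w * w = z := by
    calc w * w = w * y * (y1 * y2) := by rw [mul_assoc, ← ew]
      _ = y * y * (y1 * (y2 * y1) * y2) := by rw [w0, ew]; simp only [mul_assoc]
      _ = z * (y1 * y1 * (y2 * y2)) := by rw [hyy, one_mul, a21, Z y1 q1]; simp only [mul_assoc]
      _ = z := by rw [s1, s2, mul_one, mul_one]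
  have wc : Commute w c := by
    rw [mul_inv_eq_iff_eq_mul] at cw
    exact cw.symm
  have xw : Commute x w := ew ▸ hxy.mul_right (x1.mul_right x2)
  have wE : w ∈ QQ z ⊓ centralizer ((zpowers x ⊔ zpowers c : Subgroup G) : Set G) := ⟨qw, cen2 xw.symm wc⟩
  have nw : ¬ (w = 1 ∨ w = z) := by
    rintro (k | k) <;> rw [k] at ww
    · exact z1 (by rw [← ww, mul_one])
    · exact z1 (ww.symm.trans z2)
  have es := (bg.es.odd_es2_C (sup_le (zpowers_le.2 (norm_Q bg hzx)) (zpowers_le.2 (norm_Q bg hzc)))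
    (by rw [hE.card]; decide)).resolve_left fun k => nw ((mem_zpowers_iff_of_sq z2).1 (k ▸ wE))
  obtain ⟨s, ⟨qs, sE⟩, ns⟩ := es.exists_not_comm wE (fun k => nw (.inl k)) (fun k => nw (.inr k))
  have sw : s * w = z * (w * s) := (bg.es.comm s qs w qw).resolve_left fun k => ns k.symm
  have ss : s * s = z := by
    refine (bg.es.sq s qs).resolve_left fun k => ?_
    rcases no4 h hE z1 z2 zE k (bg.comm qs).symm sE with l | l
    · exact ns (by rw [l, mul_one, one_mul])
    · exact ns (by rw [l, bg.es.z_comm w qw])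
  have xs : Commute x s := mem_centralizer_iff.1 sE x (mem_sup_left (mem_zpowers x))
  have cs : c * s * c⁻¹ = s := by
    rw [mem_centralizer_iff.1 sE c (mem_sup_right (mem_zpowers c)), mul_inv_cancel_right]
  have b0 : s * y = z * (y * s) := by
    refine (bg.es.comm s qs y hy).resolve_left fun k => ns ?_
    have k1 : s * y1 = y1 * s := by simpa only [cm, cs, ← e1] using congrArg (fun u => c * u * c⁻¹) k
    have k2 : s * y2 = y2 * s := by simpa only [cm, cs, ← e2] using congrArg (fun u => c * u * c⁻¹) k1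
    exact ew ▸ ((show Commute s y from k).mul_right ((show Commute s y1 from k1).mul_right k2)).eq.symm
  have b1 : s * y1 = z * (y1 * s) := by simpa only [cm, cs, cz, ← e1] using congrArg (fun u => c * u * c⁻¹) b0
  have qu : y1 * (w * s) ∈ QQ z := mul_mem q1 (mul_mem qw qs)
  have uu : y1 * (w * s) * (y1 * (w * s)) = 1 := by
    calc _ = y1 * (w * ((s * y1) * (w * s))) := by simp only [mul_assoc]
      _ = z * (y1 * ((w * y1) * ((s * w) * s))) := by
        rw [b1, mul_assoc z, Z w qw, Z y1 q1]; simp only [mul_assoc]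
      _ = z * (y1 * y1 * (w * (z * (w * (s * s))))) := by rw [w1, sw]; simp only [mul_assoc]
      _ = 1 := by rw [s1, one_mul, Z w qw, ZZ, ← mul_assoc, ww, ss, z2]
  have uy : y1 * (w * s) * y = y * (y1 * (w * s)) := by
    calc _ = y1 * (w * (s * y)) := by simp only [mul_assoc]
      _ = z * (y1 * ((w * y) * s)) := by rw [b0, Z w qw, Z y1 q1]; simp only [mul_assoc]
      _ = z * ((y1 * y) * (w * s)) := by rw [w0]; simp only [mul_assoc]
      _ = _ := by rw [a10, mul_assoc z, ZZ, mul_assoc]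
  have uw : ¬ Commute (y1 * (w * s)) w := fun k =>
    ns (cancel (Commute.refl w) (cancel (show Commute y1 w from w1.symm) k)).eq.symm
  rcases no8 h hx z1 z2 hyy uu (bg.comm hy).symm (bg.comm qu).symm uy hzx.symm hxy
    (x1.mul_right (xw.mul_right xs)) n1 n2 with l | l | l | l <;> refine uw (l ▸ ?_)
  · exact Commute.one_left w
  · exact bg.comm qw
  · exact w0.symm
  · exact (bg.comm qw).mul_left w0.symm

/-- Part (b). -/
theorem exists_c (hz : Z9 z) (hx : orderOf x = 3) (hzx : Commute z x) :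
    ∃ c : G, c ^ 3 = 1 ∧ c ∉ zpowers x ∧ Commute x c ∧ Commute z c := by
  obtain ⟨E, hE, hEz⟩ := hz.ex
  have x3 : x ^ 3 = 1 := hx ▸ pow_orderOf_eq_one x
  obtain ⟨R, r1, r2, r3, r4⟩ := Tr.exists_sylowIn_ge (IsElementaryAbelian.zpowers x3).isPGroup
    (zpowers_le.2 (mem_centralizer_singleton_iff.2 hzx.eq.symm) : zpowers x ≤ centralizer ({z} : Set G))
  have xR : x ∈ R := r1 (mem_zpowers x)
  have cz : ∀ u ∈ R, Commute z u := fun u hu => (mem_centralizer_singleton_iff.1 (r2 hu)).symm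
  have x1 : x ≠ 1 := fun k => by rw [k, orderOf_one] at hx; omega
  obtain ⟨ζ, -, z1, z2, z3⟩ := PG.exists_mem_center_of_normal r3 ⊤
    (fun k => x1 (congrArg Subtype.val
      (show (⟨x, xR⟩ : R) = 1 from mem_bot.1 (k ▸ mem_top (⟨x, xR⟩ : R)))))
  have z4 : ∀ u ∈ R, Commute u (ζ : G) := fun u hu => congrArg Subtype.val (mem_center_iff.1 z1 ⟨u, hu⟩)
  have z5 : (ζ : G) ^ 3 = 1 := congrArg Subtype.val z3
  by_cases hm : (ζ : G) ∈ zpowers x
  · have e : zpowers (ζ : G) = zpowers x := PG.eq_of_le_of_card_le (zpowers_le.2 hm) (by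
      rw [Nat.card_zpowers, Nat.card_zpowers, hx, orderOf_eq_prime z5 fun k => z2 (Subtype.ext k)])
    obtain ⟨g, -, hg⟩ := Tr.exists_conj_le_sylowIn r3 r4 hE.elem.isPGroup hEz
    have : ¬ cjs g E ≤ zpowers x := fun k => by
      have := card_le_of_le k
      rw [Nat.card_zpowers, hx, card_map_of_injective (MulAut.conj g).injective, hE.card] at this
      omega
    obtain ⟨_, ⟨u, hu, rfl⟩, hn⟩ := SetLike.not_le_iff_exists.1 this
    refine ⟨_, ?_, hn, ?_, cz _ (hg u hu)⟩
    · rw [← map_pow, hE.elem.2 u hu, map_one]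
    · obtain ⟨k, hk⟩ : x ∈ zpowers (ζ : G) := e ▸ mem_zpowers x
      exact hk ▸ ((z4 _ (hg u hu)).zpow_right k).symm
  · exact ⟨ζ, z5, hm, z4 x xR, cz _ ζ.2⟩

theorem fix (h : H3 G) (hz : Z9 z) (bg : WP.Bg z) (x : G) (hx : orderOf x = 3) (hzx : Commute z x)
    (y : G) (hy : y ∈ QQ z) (hyy : y * y = 1) (hxy : Commute x y) : y = 1 ∨ y = z :=
  let ⟨_, c1, c2, c3, c4⟩ := exists_c hz hx hzx
  fix_a h bg hx c1 c2 c3 hzx c4 hy hyy hxy

/-- Part (c). -/
theorem card (h : H3 G) (hz : Z9 z) (bg : WP.Bg z) :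
    Nat.card (QQ z) = 32 ∨ Nat.card (QQ z) = 128 ∨ Nat.card (QQ z) = 512 := by
  obtain ⟨E, hE, hEz⟩ := hz.ex
  have cz : ∀ u ∈ E, Commute z u := fun u hu => (mem_centralizer_singleton_iff.1 (hEz hu)).symm
  have hN : E ≤ normalizer (QQ z : Set G) := fun u hu => norm_Q bg (cz u hu)
  let f : E →* MulAut (QQ z) := (QQ z).normalizerMonoidHom.comp (inclusion hN)
  have fv : ∀ (e : E) (q : QQ z), ((f e q : QQ z) : G) = e * q * (e : G)⁻¹ := fun _ _ => rfl
  have o3 : ∀ e : E, e ≠ 1 → orderOf (e : G) = 3 := fun e he =>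
    orderOf_eq_prime (hE.elem.2 _ e.2) fun k => he (Subtype.ext k)
  have inj : Function.Injective f := (injective_iff_map_eq_one f).2 fun e he => by
    by_contra k
    have hq : (e : G) ∈ QQ z := bg.lg.triv e (cz _ e.2) fun q hq => Or.inl (by
      rw [← fv e ⟨q, hq⟩, he]; rfl)
    have e3 := hE.elem.2 _ e.2
    have e4 : (e : G) * e * (e * e) = 1 := by
      rcases bg.es.sq _ hq with l | l <;> rw [l]
      · exact mul_one _
      · exact bg.sq
    refine k (Subtype.ext ?_)
    calc (e : G) = e ^ 3 * e := by rw [e3, one_mul]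
      _ = 1 := by rw [← e4, pow_succ, pow_two]; simp only [mul_assoc]
  have hab : IsMulCommutative f.range := ⟨⟨by
    rintro ⟨_, u, rfl⟩ ⟨_, v, rfl⟩
    have := hE.elem.1
    exact Subtype.ext (by change f u * f v = f v * f u; rw [← map_mul, ← map_mul, mul_comm' u v])⟩⟩
  have := (S2934.result bg.es.isPGroup (p := 3) (by decide) f.range
    (hE.elem.isPGroup.of_surjective _ f.rangeRestrict_surjective) hab
    (fun k => hE.elem.not_isCyclic (n := 2) hE.card le_rfl
      (isCyclic_of_surjective _ (MonoidHom.ofInjective inj).symm.surjective)) ?_).2.2.1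
  · simpa using this
  · rintro _ ⟨e, rfl⟩ he
    have e1 : e ≠ 1 := fun k => he (by rw [k, map_one])
    have key : ∀ u : QQ z, orderOf u = 2 → f e u = u → (u : G) = z := fun u hu k => by
      refine (fix h hz bg e (o3 e e1) (cz _ e.2) u u.2 ?_ ?_).resolve_left fun l => ?_
      · have := pow_orderOf_eq_one u
        rw [hu, pow_two] at this
        exact congrArg Subtype.val this
      · have := fv e u
        rw [k, eq_mul_inv_iff_mul_eq] at this
        exact this.symm
      · rw [show u = 1 from Subtype.ext l, orderOf_one] at hu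
        omega
    exact fun u v hu hv ku kv => Subtype.ext ((key u hu ku).trans (key v hv kv).symm)

/-- Part (d). -/
theorem le8 (h : H3 G) (hz : Z9 z) (bg : WP.Bg z) (x : G) (hx : orderOf x = 3) (hzx : Commute z x) :
    Nat.card (QQ z ⊓ centralizer ({x} : Set G) : Subgroup G) ≤ 8 := by
  have ec : centralizer ({x} : Set G) = centralizer (zpowers x : Set G) :=
    le_antisymm (fun u hu => zc (mem_centralizer_singleton_iff.1 hu))
      (centralizer_le (Set.singleton_subset_iff.2 (mem_zpowers x)))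
  have F : ∀ u ∈ QQ z ⊓ centralizer ({x} : Set G), u * u = 1 → u = 1 ∨ u = z := fun u hu k =>
    fix h hz bg x hx hzx u hu.1 k (mem_centralizer_singleton_iff.1 hu.2).symm
  rcases bg.es.odd_es2_C (zpowers_le.2 (norm_Q bg hzx)) (by rw [Nat.card_zpowers, hx]; decide) with k | k <;>
    rw [← ec] at k
  · rw [k, Nat.card_zpowers, hz.ord]; omega
  · by_contra hlt
    obtain ⟨s, hs, t, ht, hst⟩ := k.nonab
    obtain ⟨a, ha, b, hb, sa, sb, ab⟩ := k.centralizer_nonab (not_le.1 hlt) hs
    have sq : ∀ u ∈ QQ z ⊓ centralizer ({x} : Set G), ∀ v ∈ QQ z ⊓ centralizer ({x} : Set G),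
        u * v ≠ v * u → u * u = z := fun u hu v hv n => (k.sq u hu).resolve_left fun l => by
      rcases F u hu l with m | m
      · exact n (by rw [m, mul_one, one_mul])
      · exact n (m ▸ k.z_comm v hv)
    have e : s * a * (s * a) = 1 := by
      rw [mul_assoc, ← mul_assoc a, ← sa, mul_assoc, ← mul_assoc, sq s hs t ht hst, sq a ha b hb ab, bg.sq]
    have hc : Commute (s * a) b := by
      rcases F _ (mul_mem hs ha) e with m | m <;> rw [m]
      · exact Commute.one_left b
      · exact k.z_comm b hb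
    exact ab (cancel (show Commute s b from sb) hc)

end Fix

theorem H3.fn (h : H3 G) (hz : Z9 z) (bg : WP.Bg z) : Fn z :=
  ⟨bg, Fix.card h hz bg, Fix.fix h hz bg, Fix.le8 h hz bg⟩

end Cfsg.Agent.M23T
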