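import Mathlib
import Cfsg.Agent.M23T.Defs
import Cfsg.Agent.S2029
import Cfsg.Agent.Loc.TechBasic
import Cfsg.Agent.Inv.LocalChar

set_option autoImplicit false

namespace Cfsg.Agent.M23T

open Subgroup Cfsg.Agent.GT Cfsg.Agent.LX Cfsg.Agent.Gr6

variable {G : Type*} [Group G] [Finite G]

theorem h2_of (c2 : IsCharacteristicTwoType G)
    (con : ∀ x : G, orderOf x = 3 → IsPConstrained 3 (centralizer ({x} : Set G)))
    (odd : ∀ x : G, orderOf x = 3 → Odd (Nat.card (O3 x))) : H2 G := by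
  refine ⟨c2, fun D h0 hD => ?_⟩
  obtain ⟨x, hx, hx1⟩ := (D.bot_or_exists_ne_one).resolve_left h0
  have ho := hD.orderOf_eq hx hx1
  have hCx : centralizer (D : Set G) ≤ centralizer ({x} : Set G) :=
    centralizer_le (Set.singleton_subset_iff.2 hx)
  have hDx : D ≤ centralizer ({x} : Set G) := hD.le_centralizer.trans hCx
  have hcon : IsPConstrained 3 (centralizer (D : Set G)) :=
    Inv.LC.isPConstrained_centralizer_of_le (con x ho) hD.isPGroup hDx hCx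
  have hK : K3 D ≤ O3 x := by
    have := Loc.pPrimeCoreOf_inf_centralizer (con x ho) hD.isPGroup hDx
    rw [inf_eq_right.2 hCx] at this
    exact this.le.trans inf_le_left
  have hn := pPrimePCore_normal (G := centralizer (D : Set G)) (p := 3)
  set C := centralizer (D : Set G) with hC
  refine ⟨(pPrimePCore 3 C).map C.subtype, ?_, map_subtype_le _, le_normalizer_map_subtype _ _, ?_, ?_⟩
  · intro d hd
    refine ⟨⟨d, hD.le_centralizer hd⟩, pCore_le_pPrimePCore ?_, rfl⟩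
    have h1 : D ≤ pCoreOf 3 C := le_pCoreOf hD.le_centralizer (centralizer_le_normalizer _) hD.isPGroup
    obtain ⟨y, hy, e⟩ := h1 hd
    rwa [show (⟨d, hD.le_centralizer hd⟩ : C) = y from Subtype.ext e.symm]
  · rw [card_map_subtype, card_pPrimePCore, ← card_pPrimeCoreOf]
    obtain ⟨k, hk⟩ := IsPGroup.exists_card_eq (isPGroup_pCore (G := C ⧸ pPrimeCore 3 C) 3)
    rw [hk]
    exact (Odd.pow (by decide)).mul ((odd x ho).of_dvd_nat (card_dvd_of_le hK))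
  · intro R hR h3 hi
    set N := pPrimePCore 3 C
    have hRC : R ≤ C := hR.trans (map_subtype_le _)
    have hRN : R.subgroupOf C ≤ N := fun y hy => by
      obtain ⟨w, hw, e⟩ := hR hy
      rwa [show y = w from Subtype.ext e.symm]
    have hP : IsPGroup 3 ((R.subgroupOf C).subgroupOf N) :=
      (h3.comap_subtype).comap_subtype
    have hidx : ¬ 3 ∣ ((R.subgroupOf C).subgroupOf N).index := by
      change ¬ 3 ∣ (R.subgroupOf C).relIndex N
      rwa [subgroupOf, relIndex_comap]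
    have key := hcon (hP.toSylow hidx)
    rw [IsPGroup.toSylow_coe, map_subgroupOf_eq_of_le hRN] at key
    rintro y ⟨hy1, hy2⟩
    exact ⟨⟨y, hy1⟩, key fun w hw => Subtype.ext (hy2 w hw), rfl⟩

open Cfsg.Agent.Loc.KM Cfsg.Agent.S2029 in
open scoped commutatorElement in
theorem rk_of (p : ℕ) [Fact p.Prime] (hp : p ≠ 2) (hG2 : IsCharacteristicTwoType G)
    (hR : ∀ D U : Subgroup G, D ≠ ⊥ → IsElementaryAbelian p D → IsPGroup 2 U →
      U ≤ centralizer (D : Set G) → ∃ R : Subgroup G, IsPGroup p R ∧ D ≤ R ∧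
      R ≤ centralizer (D : Set G) ∧ U ≤ normalizer (R : Set G) ∧ U ⊓ centralizer (R : Set G) = ⊥) :
    TwoLocalPRankLE p 2 G := by
  have hp' : p.Prime := Fact.out
  by_contra hc
  obtain ⟨A, ⟨hA, T, hT, hT0, hAT⟩, hmax⟩ := Set.exists_max_image
    {A : Subgroup G | IsElementaryAbelian p A ∧ ∃ T : Subgroup G, IsPGroup 2 T ∧ T ≠ ⊥ ∧
      A ≤ normalizer (T : Set G)} (fun A => Nat.card A) (Set.toFinite _) (by
      by_contra he
      exact hc fun H ⟨T, h1, h2, _⟩ => absurd ⟨⊥, .bot, T, h1, h2, bot_le⟩ he)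
  have h3 : p ^ 3 ≤ Nat.card A := by
    by_contra h
    refine hc fun H ⟨T, h1, h2, e⟩ => by_contra fun hn => h ?_
    obtain ⟨A', h4, h5, h6⟩ := PG.not_pRankLE_subgroup_iff.1 hn
    exact h6 ▸ hmax A' ⟨h5, T, h1, h2, e ▸ h4⟩
  have hbd : ∀ (V : Subgroup G) (t : G), IsElementaryAbelian p V → t ^ 2 = 1 → t ≠ 1 →
      Nat.card (V ⊓ centralizer ({t} : Set G) : Subgroup G) ≤ Nat.card A := fun V t hV h1 h2 =>
    hmax _ ⟨hV.mono inf_le_left, zpowers t, (IsElementaryAbelian.zpowers h1).isPGroup,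
      by simpa using h2, inf_le_right.trans
        (le_normalizer_of_le_centralizer (centralizer_zpowers t).ge)⟩
  have hV : ∀ D E : Subgroup G, D ≠ ⊥ → IsElementaryAbelian p D → IsElementaryAbelian 2 E →
      E ≤ centralizer (D : Set G) → ∃ V : Subgroup G, IsElementaryAbelian p V ∧
        E ≤ normalizer (V : Set G) ∧ E ⊓ centralizer (V : Set G) = ⊥ ∧
        Nat.card D ≤ Nat.card (V ⊓ centralizer (E : Set G) : Subgroup G) := fun D E h0 hD hE h => by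
    obtain ⟨R, r1, r2, -, r4, r5⟩ := hR D E h0 hD hE.isPGroup h
    obtain ⟨V, h1, -, h2, h4, h5⟩ := exists_faithful hp r1 hE r4 r5 r2 hD h
    exact ⟨V, h2, h4, h5, card_le_of_le (le_inf h1 (le_centralizer_iff.1 h))⟩
  have hM : Max p A := ⟨hp, hA, h3, fun D E m h0 hD hE h hm => by
    obtain ⟨V, h1, h2, h4, h5⟩ := hV D E h0 hD hE h
    obtain ⟨t, ht, ht1, h6⟩ := exists_invol hp h1.isPGroup m hE h2 h4 hm
    exact (Nat.mul_le_mul_left _ h5).trans (h6.trans (hbd V t h1 (hE.2 t ht) ht1))⟩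
  obtain ⟨z, hz, hAz, -⟩ := hM.struct (isPGroup_pCoreOf 2 (normalizer (T : Set G)))
    (fun e => hT0 (le_bot_iff.1 (e ▸ le_pCoreOf le_normalizer le_rfl hT)))
    (hAT.trans (le_normalizer_pCoreOf _)) (faithful hp hG2 hT hT0 hA.isPGroup hAT)
  obtain ⟨C, hC⟩ := hM.exists_crit hG2 hz hAz
  have hyp : ∀ D ≤ A, D ≠ ⊥ → ∃ B ≤ A, B.relIndex A = p ∧ ¬ D ≤ B ∧
      ¬ C ⊓ centralizer (B : Set G) ≤ centralizer (A : Set G) := fun D hD h0 => by
    by_contra! hc
    refine h0 (le_bot_iff.1 (hC.faith ▸ le_inf hD (le_centralizer_iff.1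
      (CopAct.le_of_hyperplane_centralizer_le hA hM.ne_bot (hC.le.trans hC.norm)
        (not_dvd hp hC.two) fun B h1 h2 => ?_))))
    by_cases h : D ≤ B
    · exact inf_le_right.trans (centralizer_anti h)
    · exact (hc B h1 h2 h).trans (centralizer_anti hD)
  obtain ⟨B₁, a1, a2, -, a4⟩ := hyp A le_rfl hM.ne_bot
  obtain ⟨B₂, b1, b2, b3, b4⟩ := hyp B₁ a1 fun e => hM.inf_ne a1 a2 a2 (by simp [e])
  obtain ⟨B₃, c1, c2, c3, c4⟩ := hyp (B₁ ⊓ B₂) (inf_le_left.trans a1) (hM.inf_ne a1 a2 b2)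
  obtain ⟨i₁, hi₁, j₁, hj₁, d1, d2, d3⟩ := exists_quat hM hC a1 a4
  obtain ⟨i₂, hi₂, j₂, hj₂, e1, e2, e3⟩ := exists_quat hM hC b1 b4
  obtain ⟨i₃, hi₃, j₃, hj₃, f1, f2, f3⟩ := exists_quat hM hC c1 c4
  have c12 := commute_of_ne hM hC a1 b1 b2 b3
  have c13 := commute_of_ne hM hC a1 c1 c2 fun e => c3 (inf_le_left.trans e)
  have c23 := commute_of_ne hM hC b1 c1 c2 fun e => c3 (inf_le_right.trans e)
  have hle : ∀ B ≤ A, ⁅C ⊓ centralizer (B : Set G), A⁆ ≤ C ⊓ centralizer (B : Set G) :=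
    fun B hB => CopAct.commutator_le_of_le_normalizer
      (CopAct.le_normalizer_inf_centralizer_of_isMulCommutative hA.1 hB (hC.le.trans hC.norm))
  have hzc : ∀ x ∈ C, x * z = z * x := fun x hx => mem_centralizer_singleton_iff.1 (hC.cen hx)
  have hzz := hC.mul_self
  have hprod : ∀ x ∈ ⁅C ⊓ centralizer (B₁ : Set G), A⁆, ∀ y ∈ ⁅C ⊓ centralizer (B₂ : Set G), A⁆,
      x * y ∈ C ⊓ centralizer ((B₁ ⊓ B₂ : Subgroup G) : Set G) ⊓
        centralizer ((⁅C ⊓ centralizer (B₃ : Set G), A⁆ : Subgroup G) : Set G) := fun x hx y hy =>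
    mul_mem ⟨inf_le_inf_left _ (centralizer_anti inf_le_left) (hle _ a1 hx), c13 hx⟩
      ⟨inf_le_inf_left _ (centralizer_anti inf_le_right) (hle _ b1 hy), c23 hy⟩
  have hsq : ∀ x ∈ ⁅C ⊓ centralizer (B₁ : Set G), A⁆, ∀ y ∈ ⁅C ⊓ centralizer (B₂ : Set G), A⁆,
      x * x = z → y * y = z → (x * y) ^ 2 = 1 := fun x hx y hy h1 h2 => by
    rw [sq, mul_assoc, ← mul_assoc y, c12 hx y hy, mul_assoc, h2, ← mul_assoc, h1, hzz]
  have hne : ∀ x y : G, x * y = z * (y * x) → x * y ≠ y * x := fun x y h1 h2 =>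
    hC.ne_one (by rwa [h2, eq_comm, mul_eq_right] at h1)
  have hE0 : IsElementaryAbelian 2 (zpowers z) := .zpowers (by rw [sq, hzz])
  have hE1 := hE0.sup_zpowers (hsq _ hi₁ _ hi₂ d1 e1) (by
    rw [centralizer_zpowers]; exact hC.cen (hprod _ hi₁ _ hi₂).1.1)
  have hE := hE1.sup_zpowers (hsq _ hj₁ _ hj₂ d2 e2) (by
    rw [centralizer_sup, centralizer_zpowers, centralizer_zpowers]
    refine ⟨hC.cen (hprod _ hj₁ _ hj₂).1.1, mem_centralizer_singleton_iff.2 ?_⟩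
    calc j₁ * j₂ * (i₁ * i₂) = (z * z) * (j₁ * (j₂ * i₁) * i₂) := by rw [hzz]; group
      _ = z * (j₁ * i₁) * (z * (j₂ * i₂)) := by
        rw [c12 hi₁ j₂ hj₂, ← mul_assoc (z * (j₁ * i₁)), mul_assoc z (j₁ * i₁) z,
          hzc _ (mul_mem (hle _ a1 hj₁).1 (hle _ a1 hi₁).1)]; group
      _ = i₁ * (j₁ * i₂) * j₂ := by rw [← d3, ← e3]; group
      _ = i₁ * i₂ * (j₁ * j₂) := by rw [← c12 hj₁ i₂ hi₂]; group)
  set E := zpowers z ⊔ zpowers (i₁ * i₂) ⊔ zpowers (j₁ * j₂)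
  have g1 := mul_card_le hE1.isPGroup (lt_of_le_of_ne le_sup_left fun e => hne _ _ d3 (by
    have := hC.zpowers_le (e.ge (mem_sup_right (mem_zpowers _)))
    have h := this.2 j₁ (hle _ a1 hj₁).1
    rw [mul_assoc, c12 hj₁ i₂ hi₂, ← mul_assoc, ← mul_assoc] at h
    exact (mul_right_cancel h).symm))
  have g2 := mul_card_le hE.isPGroup (lt_of_le_of_ne le_sup_left fun e => hne _ _ d3 (by
    have h1 : zpowers z ⊔ zpowers (i₁ * i₂) ≤ centralizer ({i₁} : Set G) :=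
      sup_le (zpowers_le.2 (mem_centralizer_singleton_iff.2 (hzc _ (hle _ a1 hi₁).1).symm))
        (zpowers_le.2 (mem_centralizer_singleton_iff.2 (by
          rw [mul_assoc, c12 hi₁ i₂ hi₂])))
    have h := mem_centralizer_singleton_iff.1 (h1 (e.ge (mem_sup_right (mem_zpowers _))))
    rw [mul_assoc, c12 hi₁ j₂ hj₂, ← mul_assoc, ← mul_assoc] at h
    exact (mul_right_cancel h).symm))
  rw [Nat.card_zpowers, hz] at g1
  have hEle : E ≤ C ⊓ centralizer ((B₁ ⊓ B₂ : Subgroup G) : Set G) ⊓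
      centralizer ((⁅C ⊓ centralizer (B₃ : Set G), A⁆ : Subgroup G) : Set G) :=
    sup_le (sup_le (zpowers_le.2 ⟨⟨hC.mem, le_centralizer_singleton_iff.1
      ((inf_le_left.trans a1).trans hC.le)⟩, le_centralizer_singleton_iff.1
      (((hle _ c1).trans inf_le_left).trans hC.cen)⟩) (zpowers_le.2 (hprod _ hi₁ _ hi₂)))
      (zpowers_le.2 (hprod _ hj₁ _ hj₂))
  have hzE : z ∈ E := mem_sup_left (mem_sup_left (mem_zpowers z))
  obtain ⟨V, h1, h2, h4, h5⟩ := hV (B₁ ⊓ B₂) E (hM.inf_ne a1 a2 b2)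
    (hA.mono (inf_le_left.trans a1)) hE (hEle.trans (inf_le_left.trans inf_le_right))
  obtain ⟨B, hBE, k1, k2, k3⟩ := exists_step hp h1.isPGroup hE h2 h4 hzE hC.ne_one
  obtain ⟨t, ht, ht1, k4⟩ := exists_invol hp h1.isPGroup 1 (hE.mono hBE) (hBE.trans h2)
    (le_bot_iff.1 (h4 ▸ inf_le_inf_right _ hBE)) (by omega)
  have ht2 := hE.2 t (hBE ht)
  have hcard : Nat.card (V ⊓ centralizer ({t} : Set G) : Subgroup G) = Nat.card A :=
    le_antisymm (hbd V t h1 ht2 ht1) ((card_inf a1 a2 b2).trans (le_trans (by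
      rw [sq, mul_assoc, pow_one]
      exact Nat.mul_le_mul_left _ ((Nat.mul_le_mul_left _ h5).trans k3)) k4))
  have hM' : Max p (V ⊓ centralizer ({t} : Set G)) :=
    ⟨hp, h1.mono inf_le_left, hcard ▸ h3, hcard ▸ hM.bound⟩
  obtain ⟨C', hC'⟩ := hM'.exists_crit hG2 (orderOf_eq_prime ht2 ht1) inf_le_right
  have hzt : z ∈ centralizer ({t} : Set G) :=
    mem_centralizer_singleton_iff.2 (hE.comm hzE (hBE ht))
  have hmem : ∀ x ∈ ⁅C ⊓ centralizer (B₃ : Set G), A⁆, x ∈ C ⊓ centralizer ({t} : Set G) :=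
    fun x hx => ⟨(hle _ c1 hx).1, mem_centralizer_singleton_iff.2 ((hEle (hBE ht)).2 x hx)⟩
  refine hC.sym hp hC' hM'.elem.isPGroup (hEle (hBE ht)).1.1
    (inf_normalizer_le_normalizer_inf ⟨h2 hzE, le_normalizer hzt⟩)
    (fun e => k2 ((inf_le_inf_left _ (centralizer_le_centralizer_singleton ht)).trans e))
    (hmem _ hi₃) (hmem _ hj₃) f1 f2 ?_
  calc i₃ * j₃ * (i₃ * j₃) = z * (j₃ * (i₃ * i₃) * j₃) := by nth_rw 1 [f3]; group
    _ = z := by rw [f1, hzc _ (hle _ c1 hj₃).1, mul_assoc z j₃, f2, hzz, mul_one]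

theorem H2.rk (h : H2 G) : TwoLocalPRankLE 3 2 G :=
  rk_of 3 (by decide) h.c2 fun _ _ h0 hD hU hUD => h.exists_R h0 hD hU hUD

end Cfsg.Agent.M23T
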