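import Mathlib
import Cfsg.Agent.M23T.Rk
import Cfsg.Agent.S2029
import Cfsg.Agent.Loc.TechDihRank
import Cfsg.Agent.GT.TransferSylow
import Cfsg.Agent.GT.CoprimeGen

/-!
The Klinger-Mason bounds.
-/

set_option autoImplicit false

namespace Cfsg.Agent.M23T

open Subgroup Cfsg.Agent.GT Cfsg.Agent.LX Cfsg.Agent.Gr6

variable {G : Type*} [Group G] [Finite G]

theorem H2.km_bd (h : H2 G) {D U : Subgroup G} {m : ℕ} (hm : 0 < m) (hD : IsElementaryAbelian 3 D)
    (hc : Nat.card D = 3 ^ m) (hU : IsElementaryAbelian 2 U) (hUD : U ≤ centralizer (D : Set G)) :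
    Nat.card U ≤ 2 ^ (3 - m) := by
  have : Fact (Nat.Prime 2) := ⟨Nat.prime_two⟩
  obtain ⟨k, hk⟩ := hU.card_eq_pow
  rcases Nat.eq_zero_or_pos k with rfl | hk0
  · rw [hk]; exact Nat.pow_le_pow_right (by norm_num) (Nat.zero_le _)
  obtain ⟨d, rfl⟩ : ∃ d, k = d + 1 := ⟨k - 1, by omega⟩
  have h0 : D ≠ ⊥ := by
    rintro rfl
    rw [card_bot] at hc
    exact absurd hc (Nat.one_lt_pow (by omega) (by norm_num)).ne
  obtain ⟨R, r1, -, r3, r4, r5⟩ := h.exists_R h0 hD hU.isPGroup hUD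
  have := Loc.DihRank.rank_le (by norm_num) h.rk r1 hU hk r4 r5 hD hc (le_centralizer_iff.1 hUD) r3
  rw [hk]
  exact Nat.pow_le_pow_right (by norm_num) (by omega)

omit [Finite G] in
theorem E9.km_ne_bot {E : Subgroup G} (hE : E9 E) : E ≠ ⊥ := by
  rintro rfl
  have := hE.card
  rw [card_bot] at this
  exact absurd this (by norm_num)

omit [Finite G] in
theorem E9.km_hyp {E A : Subgroup G} (hE : E9 E) (hA : A ≤ E) (hi : A.relIndex E = 3) :
    Nat.card A = 3 := by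
  have h1 := PG.relIndex_mul_card hA
  rw [hi, hE.card] at h1
  omega

theorem km_not_dvd {Q : Subgroup G} (hQ : IsPGroup 2 Q) : ¬ 3 ∣ Nat.card Q :=
  Loc.KM.not_dvd (p := 3) (by norm_num) hQ

theorem H2.km_z (h : H2 G) {T E : Subgroup G} (hT : IsPGroup 2 T) (h0 : T ≠ ⊥) (hE : E9 E)
    (hET : E ≤ normalizer (T : Set G)) : ∃ z : G, Z9 z := by
  have : Fact (Nat.Prime 2) := ⟨Nat.prime_two⟩
  set Z : Subgroup G := T ⊓ centralizer (T : Set G) with hZ
  have hZ2 : IsPGroup 2 Z := hT.to_inf_left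
  have hZ0 : Z ≠ ⊥ := PG.inf_centralizer_ne_bot_of_isPGroup hT hT le_normalizer h0
  have hZc : IsMulCommutative Z :=
    Loc.KM.comm_of_le (inf_le_right.trans (centralizer_le inf_le_left))
  set V : Subgroup G := omegaOne 2 Z with hV
  have hVe : IsElementaryAbelian 2 V := PG.isElementaryAbelian_omegaOne hZc
  have hV0 : V ≠ ⊥ := PG.omegaOne_ne_bot hZ2 hZ0
  have hEV : E ≤ normalizer (V : Set G) :=
    (CopAct.le_normalizer_inf hET (CopAct.le_normalizer_centralizer hET)).trans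
      (PG.normalizer_le_normalizer_omegaOne Z)
  by_cases hc : V ⊓ centralizer (E : Set G) = ⊥
  swap
  · obtain ⟨⟨z, hz⟩, hz1⟩ := ne_bot_iff_exists_ne_one.1 hc
    have hz1' : z ≠ 1 := fun e => hz1 (Subtype.ext e)
    refine ⟨z, orderOf_eq_prime (hVe.2 z hz.1) hz1', E, hE, fun e he => ?_⟩
    exact mem_centralizer_singleton_iff.2 (mem_centralizer_iff.1 hz.2 e he)
  obtain ⟨A, hA, hi, hU0⟩ : ∃ A ≤ E, A.relIndex E = 3 ∧ V ⊓ centralizer (A : Set G) ≠ ⊥ := by
    by_contra! hn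
    exact hV0 (le_bot_iff.1 (CopAct.le_of_hyperplane_centralizer_le hE.elem hE.km_ne_bot hEV
      (km_not_dvd hVe.isPGroup) fun A hA hi => (hn A hA hi).le))
  have hA3 := hE.km_hyp hA hi
  have hAe : IsElementaryAbelian 3 A := hE.elem.mono hA
  have hA0 : A ≠ ⊥ := by
    rintro rfl
    rw [card_bot] at hA3
    exact absurd hA3 (by norm_num)
  set U : Subgroup G := V ⊓ centralizer (A : Set G) with hU
  have hUe : IsElementaryAbelian 2 U := hVe.mono inf_le_left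
  have hEU : E ≤ normalizer (U : Set G) :=
    CopAct.le_normalizer_inf_centralizer_of_isMulCommutative hE.elem.1 hA hEV
  have h5 := card_modEq_card_inf_centralizer hE.elem.isPGroup hEU
  have h6 : U ⊓ centralizer (E : Set G) = ⊥ :=
    le_bot_iff.1 ((inf_le_inf_right _ inf_le_left).trans hc.le)
  rw [h6, card_bot] at h5
  obtain ⟨k, hk⟩ := hUe.card_eq_pow
  have hk2 : 2 ≤ k := by
    by_contra! hlt
    interval_cases k
    · exact hU0 (card_eq_one.1 (by rw [hk, pow_zero]))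
    · rw [hk] at h5; exact absurd h5 (by decide)
  obtain ⟨d, rfl⟩ : ∃ d, k = d + 1 + 1 := ⟨k - 2, by omega⟩
  obtain ⟨R, r1, -, r3, r4, r5⟩ := h.exists_R hA0 hAe hUe.isPGroup inf_le_right
  obtain ⟨a, ha, ha2, E', e1, e2, e3, e4, e5⟩ :=
    Loc.DihRank.exists_invol (p := 3) (by norm_num) r1 hUe hk r4 r5
  have hE0 : E' ≠ ⊥ := by
    rintro rfl
    rw [card_bot] at e4
    exact absurd e4 (Nat.one_lt_pow (by omega) (by norm_num)).not_ge
  obtain ⟨⟨e, he⟩, he1⟩ := ne_bot_iff_exists_ne_one.1 hE0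
  have he1' : e ≠ 1 := fun e => he1 (Subtype.ext e)
  have hAU : A ≤ centralizer (U : Set G) := le_centralizer_iff.1 inf_le_right
  have heA : e ∉ A := fun hh => he1' (mem_bot.1 (e5 ▸ (⟨he, hAU hh⟩ : e ∈ E' ⊓ centralizer (U : Set G))))
  have hec : e ∈ centralizer (A : Set G) := r3 (e1 he)
  refine ⟨a, ha2, A ⊔ zpowers e, ⟨hAe.sup_zpowers (e2.2 e he) hec, ?_⟩, sup_le ?_ (zpowers_le.2 (e3 he))⟩
  · rw [PG.card_sup_zpowers Nat.prime_three (centralizer_le_normalizer _ hec) heA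
      (by rw [e2.2 e he]; exact A.one_mem), hA3]
  · exact hAU.trans (centralizer_le (Set.singleton_subset_iff.2 ha))

theorem H2.km_nab (h : H2 G) {T E : Subgroup G} (hT : IsPGroup 2 T) (h0 : T ≠ ⊥) (hE : E9 E)
    (hET : E ≤ normalizer (T : Set G)) : ¬ ∀ P : Sylow 3 G, IsMulCommutative (P : Subgroup G) := by
  intro hab
  have : Fact (Nat.Prime 2) := ⟨Nat.prime_two⟩
  set Q : Subgroup G := pCoreOf 2 (normalizer (T : Set G)) with hQ
  have hQ2 : IsPGroup 2 Q := isPGroup_pCoreOf 2 _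
  have hEQ : E ≤ normalizer (Q : Set G) := hET.trans (le_normalizer_pCoreOf _)
  have hf : E ⊓ centralizer (Q : Set G) = ⊥ :=
    S2029.faithful (p := 3) (by norm_num) h.c2 hT h0 hE.elem.isPGroup hET
  refine hE.km_ne_bot (le_bot_iff.1 ((le_inf le_rfl (le_centralizer_iff.1 ?_)).trans hf.le))
  refine CopAct.le_of_hyperplane_centralizer_le hE.elem hE.km_ne_bot hEQ (km_not_dvd hQ2)
    fun A hA hi => ?_
  have hA3 := hE.km_hyp hA hi
  have hA0 : A ≠ ⊥ := by
    rintro rfl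
    rw [card_bot] at hA3
    exact absurd hA3 (by norm_num)
  obtain ⟨N, -, n2, n3, n4, n5⟩ := h.fa A hA0 (hE.elem.mono hA)
  have hEA : E ≤ centralizer (A : Set G) := hE.elem.le_centralizer.trans (centralizer_le hA)
  obtain ⟨S, s1, -, s3, s4⟩ := Tr.exists_sylowIn_ge hE.elem.isPGroup hEA
  obtain ⟨P, hP⟩ := s3.exists_le_sylow
  have hSc : S ≤ centralizer (S : Set G) :=
    (hP.trans (Loc.KM.le_of_comm (hab P))).trans (centralizer_le hP)
  have hEN : E ≤ N := (le_inf hEA ((s1.trans hSc).trans (centralizer_le inf_le_left))).trans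
    (n5 (S ⊓ N) inf_le_right s3.to_inf_left (Tr.not_dvd_relIndex_inf_of_normal s4 s3 n2 n3))
  have hNQ : N ⊓ Q = ⊥ := by
    obtain ⟨m, hm⟩ := hQ2.exists_card_eq
    refine eq_bot_of_card_eq _ ((Nat.coprime_self _).1 ?_)
    have hc : (Nat.card Q).Coprime (Nat.card N) := by
      rw [hm]; exact (Nat.coprime_two_left.2 n4).pow_left m
    exact (hc.coprime_dvd_left (card_dvd_of_le inf_le_right)).coprime_dvd_right
      (card_dvd_of_le inf_le_left)
  intro y hy
  refine mem_centralizer_iff.2 fun e he => ?_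
  have h1 : e * y * e⁻¹ * y⁻¹ ∈ N ⊓ Q := by
    refine ⟨?_, Q.mul_mem ((mem_normalizer_iff.1 (hEQ he) y).1 hy.1) (Q.inv_mem hy.1)⟩
    rw [mul_assoc, mul_assoc, ← mul_assoc y]
    exact N.mul_mem (hEN he) ((mem_normalizer_iff.1 (n3 hy.2) _).1 (N.inv_mem (hEN he)))
  rw [hNQ, mem_bot, mul_inv_eq_one, mul_inv_eq_iff_eq_mul] at h1
  exact h1

theorem H2.h3 (h : H2 G) (r2 : ¬ PRankLE 2 2 G)
    (big : (∀ P : Sylow 3 G, IsMulCommutative (P : Subgroup G)) ∨ 81 ∣ Nat.card G)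
    {T E : Subgroup G} (hT : IsPGroup 2 T) (h0 : T ≠ ⊥) (hE : E9 E) (hET : E ≤ normalizer (T : Set G)) :
    H3 G ∧ ∃ z : G, Z9 z := by
  refine ⟨⟨h.c2, h.rk, fun x hx U hU hUx => ?_, fun D hD U hU hUD => ?_,
    big.resolve_left (h.km_nab hT h0 hE hET), r2⟩, h.km_z hT h0 hE hET⟩
  · refine h.km_bd (D := zpowers x) (m := 1) one_pos
      (IsElementaryAbelian.zpowers (by rw [← hx, pow_orderOf_eq_one])) (by rw [Nat.card_zpowers, hx, pow_one])
      hU (le_centralizer_iff.1 (zpowers_le.2 (mem_centralizer_iff.2 fun u hu => ?_)))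
    exact mem_centralizer_singleton_iff.1 (hUx hu)
  · exact h.km_bd (m := 2) two_pos hD.elem hD.card hU hUD

end Cfsg.Agent.M23T
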