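import Mathlib
import Cfsg.Agent.M23T.Defs
import Cfsg.Agent.S1296
import Cfsg.Agent.GT.PGroupRank
import Cfsg.Agent.GT.PGroupChain
import Cfsg.Agent.GT.Components
import Cfsg.Agent.GT.FStar
import Cfsg.Agent.Inv.LocalChar

/-! First reductions: characteristic 2 type, constrained centralisers, a normal subgroup of order 9. -/

set_option autoImplicit false

namespace Cfsg.Agent.M23T

open Subgroup Cfsg.Agent.GT Cfsg.Agent.LX Cfsg.Agent.Gr6

variable {G : Type*} [Group G] [Finite G]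

theorem red_con [IsSimpleGroup G] {p : ℕ} [Fact p.Prime] {x : G} (hx : orderOf x = p)
    (h : IsPConstrained p (normalizer ((zpowers x : Subgroup G) : Set G))) :
    IsPConstrained p (centralizer ({x} : Set G)) := by
  refine Inv.LC.isPConstrained_centralizer_singleton_of_le h hx ?_
  rw [← centralizer_closure, ← zpowers_eq_closure]
  exact centralizer_le_normalizer _

omit [Finite G] in
theorem red_zp {p : ℕ} [hp : Fact p.Prime] {x : G} (hx : orderOf x = p) :
    IsPGroup p (zpowers x) ∧ zpowers x ≠ ⊥ :=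
  ⟨IsPGroup.of_card (n := 1) (by rw [Nat.card_zpowers, hx, pow_one]), fun e => by
    rw [zpowers_eq_bot] at e
    rw [e, orderOf_one] at hx
    exact hp.out.one_lt.ne hx⟩

theorem c2_of [IsSimpleGroup G] (hG : ¬ IsMulCommutative G) {A : Subgroup G} (hA3 : ¬ PRankLE 2 2 A)
    (hcon : ∀ T : Subgroup G, IsPGroup 2 T → T ≠ ⊥ → IsPConstrained 2 (normalizer (T : Set G))) :
    IsCharacteristicTwoType G ∧ ¬ PRankLE 2 2 G := by
  have hr : ¬ PRankLE 2 2 G := fun h => hA3 (h.subgroup A)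
  obtain ⟨E, -, hE⟩ := PG.not_pRankLE_iff.1 hr
  have h8 : 8 ∣ Nat.card G := (show 2 ^ (2 + 1) = 8 from rfl) ▸ hE ▸ card_subgroup_dvd_card E
  have hev : Even (Nat.card G) := even_iff_two_dvd.2 (Dvd.dvd.trans (by norm_num) h8)
  have hO : oddCore G = ⊥ := by
    rcases (inferInstance : (pPrimeCore 2 G).Normal).eq_bot_or_eq_top with e | e
    · exact e
    · have := coprime_card_pPrimeCore (G := G) 2
      rw [e, card_top] at this
      exact absurd (Nat.coprime_two_right.1 this) (Nat.not_odd_iff_even.2 hev)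
  refine ⟨?_, hr⟩
  have h2 : ∀ N : Subgroup G, N.Normal → N.index ≠ 2 := fun N hN e => by
    rcases hN.eq_bot_or_eq_top with rfl | rfl
    · rw [index_bot] at e
      rw [e] at h8
      omega
    · simp at e
  rcases S1296.result hev h2 hO with h | ⟨t, ht, K, hK⟩ | h
  · exact absurd h hr
  · exfalso
    obtain ⟨h1, h2⟩ := red_zp ht
    have hc := isPConstrained_iff.1 (red_con ht (hcon _ h1 h2))
    have hK' : IsComponent K := hK
    have h3 : K ≤ pCore 2 _ :=
      (hK'.le_centralizer_fitting.trans (centralizer_le (pCore_le_fitting Nat.prime_two))).trans hc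
    have := (isPGroup_pCore (G := centralizer ({t} : Set G) ⧸ oddCore (centralizer ({t} : Set G))) 2).isNilpotent
    exact hK'.isQuasisimple.not_le_of_isSolvable inferInstance h3
  · exact h

theorem con_of [IsSimpleGroup G] (hG : ¬ IsMulCommutative G)
    (h3 : ∀ R : Subgroup G, IsPGroup 3 R → R ≠ ⊥ → normalizer (R : Set G) ≠ ⊤ →
      IsPConstrained 3 (normalizer (R : Set G))) (x : G) (hx : orderOf x = 3) :
    IsPConstrained 3 (centralizer ({x} : Set G)) := by
  obtain ⟨h1, h2⟩ := red_zp hx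
  refine red_con hx (h3 _ h1 h2 fun e => ?_)
  rcases (normalizer_eq_top_iff.1 e).eq_bot_or_eq_top with k | k
  · exact h2 k
  · refine hG ⟨⟨fun a b => ?_⟩⟩
    obtain ⟨i, rfl⟩ := mem_zpowers_iff.1 (k.ge (mem_top a))
    obtain ⟨j, rfl⟩ := mem_zpowers_iff.1 (k.ge (mem_top b))
    exact zpow_mul_comm x i j

theorem exists_U (P : Sylow 3 G) {B : Subgroup G} (hB : IsSCN (P : Subgroup G) B) (hB3 : ¬ PRankLE 3 2 B) :
    ∃ U F : Subgroup G, E9 U ∧ U ≤ P ∧ (P : Subgroup G) ≤ normalizer (U : Set G) ∧ IsElementaryAbelian 3 F ∧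
      27 ≤ Nat.card F ∧ U ≤ F := by
  have hc := hB.isMulCommutative
  have hF : IsElementaryAbelian 3 (omegaOne 3 B) := PG.isElementaryAbelian_omegaOne hc
  have h27 : 27 ≤ Nat.card (omegaOne 3 B) := by
    obtain ⟨A, h1, h2, h3⟩ := PG.not_pRankLE_subgroup_iff.1 hB3
    exact (show 27 = 3 ^ (2 + 1) from rfl).le.trans
      (h3 ▸ card_le_of_le fun x hx => PG.mem_omegaOne (h1 hx) (h2.2 x hx))
  have hFP : omegaOne 3 B ≤ P := (PG.omegaOne_le B).trans hB.1
  have hn : (P : Subgroup G) ≤ normalizer ((omegaOne 3 B : Subgroup G) : Set G) :=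
    hB.2.1.trans (PG.normalizer_le_normalizer_omegaOne B)
  have : ((omegaOne 3 B).subgroupOf (P : Subgroup G)).Normal := normal_subgroupOf_of_le_normalizer hn
  obtain ⟨K, k1, k2, k3⟩ := PG.exists_normal_le_card_eq_pow (k := 2) P.isPGroup'
    ((omegaOne 3 B).subgroupOf (P : Subgroup G))
    (by rw [Nat.card_congr (subgroupOfEquivOfLe hFP).toEquiv]; omega)
  have k4 : K.map (P : Subgroup G).subtype ≤ omegaOne 3 B := by
    rintro _ ⟨y, hy, rfl⟩
    exact k2 hy
  exact ⟨_, _, ⟨hF.mono k4, by rw [card_map_of_injective (subtype_injective _), k3]; rfl⟩,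
    map_subtype_le _, le_normalizer_map_subtype _ K, hF, h27, k4⟩

theorem nrm_of (P : Sylow 3 G) {B : Subgroup G} (hB : IsSCN (P : Subgroup G) B) (hB3 : ¬ PRankLE 3 2 B)
    (P' : Sylow 3 G) : ∃ U : Subgroup G, U ≤ P' ∧ E9 U ∧ (P' : Subgroup G) ≤ normalizer (U : Set G) ∧
      ∀ u ∈ U, Good u := by
  obtain ⟨U, F, h1, h2, h3, h4, h5, h6⟩ := exists_U P hB hB3
  obtain ⟨g, rfl⟩ := MulAction.exists_smul_eq G P P'
  have e : ((g • P : Sylow 3 G) : Subgroup G) = cjs g P := rfl
  have hi : Function.Injective (MulAut.conj g).toMonoidHom := (MulAut.conj g).injective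
  refine ⟨cjs g U, e ▸ map_mono h2, ⟨h1.elem.map _, by rw [card_map_of_injective hi, h1.card]⟩, ?_,
    fun u hu k => ?_⟩
  · rw [e]
    exact (map_mono h3).trans (le_normalizer_map _)
  · have h7 : IsElementaryAbelian 3 (cjs g F) := h4.map _
    have := k.card_le_of_le (A := cjs g F)
      (h7.le_centralizer.trans (centralizer_le (Set.singleton_subset_iff.2 (map_mono h6 hu)))) h7
    rw [card_map_of_injective hi] at this
    omega

theorem big_of (P : Sylow 3 G) {B : Subgroup G} (hB : IsSCN (P : Subgroup G) B) (hB3 : ¬ PRankLE 3 2 B) :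
    (∀ P' : Sylow 3 G, IsMulCommutative (P' : Subgroup G)) ∨ 81 ∣ Nat.card G := by
  rcases hB.1.eq_or_lt with e | e
  · refine .inl fun P' => ?_
    obtain ⟨g, rfl⟩ := MulAction.exists_smul_eq G P P'
    have e' : ((g • P : Sylow 3 G) : Subgroup G) = cjs g P := rfl
    have := hB.isMulCommutative
    rw [e', ← e]
    infer_instance
  · right
    obtain ⟨A, h1, -, h3⟩ := PG.not_pRankLE_subgroup_iff.1 hB3
    obtain ⟨k, hk⟩ := P.isPGroup'.exists_card_eq
    have h4 : 3 ^ 3 < 3 ^ k := by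
      rw [← hk]
      exact (h3 ▸ card_le_of_le h1 : 3 ^ (2 + 1) ≤ _).trans_lt (card_lt_of_lt e)
    have h5 : 4 ≤ k := (Nat.pow_lt_pow_iff_right (by norm_num)).1 h4
    exact ((pow_dvd_pow 3 h5).trans (hk ▸ card_subgroup_dvd_card _) : 3 ^ 4 ∣ _)

end Cfsg.Agent.M23T
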