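import Mathlib
import Cfsg.Agent.M23T.Defs
import Cfsg.Agent.W4.P

/-! Width 4: an element of `Q_t` outside `Q` acting as an Eichler transformation with singular parameter. -/

set_option autoImplicit false
set_option linter.unusedSectionVars false

namespace Cfsg.Agent.M23T

open Subgroup Cfsg.Agent.GT Cfsg.Agent.LX Cfsg.Agent.Gr6

namespace W4A

open Cfsg.Agent.W4 Cfsg.Agent.Spor Cfsg.Agent.Spor.TT

section Lin

variable {τ : Bool} {x d1 d2 a b v v' : V} {T S : V → V}

/-- The form attached to `T`. -/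
def Bf (T : V → V) (v v' : V) : Bool := fb (v + T v) v'

/-- Its properties on the perp of `x`. -/
structure Al (x d1 d2 : V) (T : V → V) : Prop where
  symm : ∀ v v', fb v x = false → fb v' x = false → Bf T v v' = Bf T v' v
  alt : ∀ v, fb v x = false → Bf T v v = false
  van : ∀ v v', fb v x = false → fb v' x = false → fb v' d1 = false → fb v' d2 = false → Bf T v v' = false

theorem bf_add (T : V → V) (v a b : V) : Bf T v (a + b) = (Bf T v a ^^ Bf T v b) := fb_add_right _ _ _

theorem bf_sm (T : V → V) (v a : V) (β : Bool) : Bf T v (sm β a) = (β && Bf T v a) := fb_sm_right _ _ _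

theorem Al.dec (h : Al x d1 d2 T) (ha : fb a x = false) (hb : fb b x = false) (k : Bf T a b = true) (v : V) :
    ∃ α β, fb (v + sm α a + sm β b) d1 = false ∧ fb (v + sm α a + sm β b) d2 = false := by
  have h1 : fb b d1 = false → fb b d2 = false → False := fun e e' => by simpa [k] using h.van a b ha hb e e'
  have h2 : fb a d1 = false → fb a d2 = false → False := fun e e' => by
    simpa [← h.symm a b ha hb, k] using h.van b a hb ha e e'
  have h3 : fb (a + b) d1 = false → fb (a + b) d2 = false → False := fun e e' => by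
    simpa [bf_add, h.alt a ha, k] using h.van a (a + b) ha ((sub_perp x).add _ _ ha hb) e e'
  simp only [fb_add_left, fb_sm_left] at h3 ⊢
  revert h1 h2 h3
  cases fb a d1 <;> cases fb a d2 <;> cases fb b d1 <;> cases fb b d2 <;> cases fb v d1 <;> cases fb v d2 <;> decide

theorem Al.exp (h : Al x d1 d2 S) (ha : fb a x = false) (hb : fb b x = false) (hv : fb v x = false)
    (hv' : fb v' x = false) {α β : Bool} (k1 : fb (v + sm α a + sm β b) d1 = false)
    (k2 : fb (v + sm α a + sm β b) d2 = false) : Bf S v' v = ((α && Bf S v' a) ^^ (β && Bf S v' b)) := by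
  have := h.van v' _ hv' (by simp [fb_add_left, fb_sm_left, ha, hb, hv]) k1 k2
  rw [bf_add, bf_add, bf_sm, bf_sm] at this
  revert this
  cases Bf S v' v <;> cases (α && Bf S v' a) <;> cases (β && Bf S v' b) <;> decide

/-- Such forms are multiples of a non-zero one. -/
theorem Al.val (h : Al x d1 d2 T) (h' : Al x d1 d2 S) (ha : fb a x = false) (hb : fb b x = false)
    (k : Bf T a b = true) (hv : fb v x = false) (hv' : fb v' x = false) :
    Bf S v v' = (Bf T v v' && Bf S a b) := by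
  obtain ⟨α, β, k1, k2⟩ := h.dec ha hb k v
  obtain ⟨α', β', k1', k2'⟩ := h.dec ha hb k v'
  rw [h.exp ha hb hv' hv k1' k2', h'.exp ha hb hv' hv k1' k2', h.symm v a hv ha, h.symm v b hv hb,
    h'.symm v a hv ha, h'.symm v b hv hb, h.exp ha hb hv ha k1 k2, h.exp ha hb hv hb k1 k2,
    h'.exp ha hb hv ha k1 k2, h'.exp ha hb hv hb k1 k2, h.alt a ha, h.alt b hb, h'.alt a ha, h'.alt b hb,
    h.symm b a hb ha, h'.symm b a hb ha, k]
  cases α <;> cases β <;> cases α' <;> cases β' <;> cases Bf S a b <;> rfl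

/-- The form vanishes. -/
def Nul (x : V) (T : V → V) : Prop := ∀ v v', fb v x = false → fb v' x = false → Bf T v v' = false

theorem Nul.eq_rho (h : Nul x T) (hT : Iso τ T) (hx : x ≠ 0) (hq : qb τ x = false) (e : T x = x) {u : V}
    (hu : fb u x = true) (v : V) : T v = rho τ x (u + T u) v := by
  have hw : fb (u + T u) x = false := by
    have := hT.f u x
    rw [e] at this
    simp [fb_add_left, this]
  have k1 : ∀ v, fb v x = false → T v = rho τ x (u + T u) v := fun v hv => by
    have k := hT.f v u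
    rw [rho_of_perp hv, fb_add_right]
    rcases perp_perp x hx (v + T v) (fun y hy => (fb_comm _ _).trans (h v y hv hy)) with e1 | e1
    · rw [← add_eq_zero_iff.1 e1] at k ⊢
      simp [k]
    · have e2 : T v = v + x := by rw [← e1, add_add_self]
      have e3 : fb x (T u) = true := by rw [← e, hT.f, fb_comm, hu]
      rw [e2, fb_add_left, e3] at k
      rw [e2, ← k]
      cases fb v (T u) <;> rfl
  have k2 : T u = rho τ x (u + T u) u := by
    have k := qb_add τ u (u + T u)
    rw [add_add_self, hT.q] at k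
    have : (fb u (u + T u) ^^ (qb τ (u + T u) && fb u x)) = false := by
      rw [hu]
      revert k
      cases qb τ u <;> cases qb τ (u + T u) <;> cases fb u (u + T u) <;> decide
    rw [rho, this, hu, sm_true, sm_false, add_zero, add_add_self]
  cases hv : fb v x
  · exact k1 v hv
  · rw [← add_add_self u v, hT.add, (iso_rho hq hw).add, ← k2, ← k1 _ (by simp [fb_add_left, hu, hv])]

theorem sing (w1 w2 w3 : V) : qb τ w1 = false ∨ qb τ w2 = false ∨ qb τ (w2 + w1) = false ∨ qb τ w3 = false ∨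
    qb τ (w1 + w3) = false ∨ qb τ (w2 + w3) = false ∨ qb τ (w1 + (w2 + w3)) = false := by
  simp only [qb_add, fb_add_right, fb_comm w2 w1]
  cases qb τ w1 <;> cases qb τ w2 <;> cases qb τ w3 <;> cases fb w1 w2 <;> cases fb w1 w3 <;> cases fb w2 w3 <;>
    decide

end Lin

variable {G : Type*} [Group G] [Finite G] {z t : G} {τ : Bool} {π : G → V} {T S : V → V} {d1 d2 u v v' : V}

theorem card_D (h : H3 G) (c : Co z τ π) (p : Pt z t) : Nat.card (QQ z ⊓ QQ t : Subgroup G) ≤ 16 := by
  obtain ⟨q, hq, k⟩ := c.exists_q p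
  have e1 := c.cj_of_fb hq p.mem k
  obtain ⟨b, hb, e2⟩ := c.exists_b p
  obtain ⟨π', c'⟩ := c.of_isConj p.conj
  have zt : Commute z t := c.bg.comm p.mem
  have qz : cj q z = z := cj_of_commute (c.bg.comm hq).symm
  have bt : cj b t = t := cj_of_commute (c'.bg.comm hb).symm
  have f1 : cj (q * b) z = t := by rw [← cj_cj, e2, cj_mul, qz, e1, ← mul_assoc, c.zz, one_mul]
  have f2 : cj (q * b) t = z * t := by rw [← cj_cj, bt, e1]
  have f3 : cj (q * b) (z * t) = z := by rw [cj_mul, f1, f2, zt.eq, ← mul_assoc, c'.zz, one_mul]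
  have f4 : ∀ d ∈ QQ z ⊓ QQ t, d⁻¹ * cj (q * b) d ∈ ({1, z, t, z * t} : Set G) := fun d hd => by
    have c1 : d⁻¹ * z = z * d⁻¹ := (c.bg.comm hd.1).inv_right.eq.symm
    have c2 : d⁻¹ * t = t * d⁻¹ := (c'.bg.comm hd.2).inv_right.eq.symm
    rw [← cj_cj]
    rcases (c'.fix_iff (c'.ac_mem hb) hd.2).1 rfl with e | e <;>
      rcases (c.fix_iff (c.ac_mem hq) hd.1).1 rfl with e' | e' <;> simp only [e, cj_mul, e', e1]
    · simp
    · rw [← mul_assoc, c1]; simp
    · rw [← mul_assoc, ← mul_assoc, c1, mul_assoc z, c2]; simp [mul_assoc]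
    · rw [zt.eq, mul_assoc, ← mul_assoc z, c.zz, one_mul, ← mul_assoc, c2]; simp
  generalize q * b = g at f1 f2 f3 f4
  set D : Subgroup G := QQ z ⊓ QQ t
  have sq : ∀ d ∈ D, d * d = 1 := fun d hd => (c.pair p).E_sq hd
  have cm : ∀ d ∈ D, ∀ d' ∈ D, d * d' = d' * d := fun d hd d' hd' => by
    rw [← inv_eq_of_mul_eq_one_right (sq _ (mul_mem hd hd')), mul_inv_rev, inv_eq_of_mul_eq_one_right (sq _ hd),
      inv_eq_of_mul_eq_one_right (sq _ hd')]
  have hz : z ∈ D := ⟨c.bg.z_mem, (c.symm p).mem⟩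
  have ht : t ∈ D := ⟨p.mem, c'.bg.z_mem⟩
  have f5 : ∀ d ∈ D, d⁻¹ * cj g d ∈ D := fun d hd => by
    rcases f4 d hd with e | e | e | e <;> rw [e]
    exacts [one_mem _, hz, ht, mul_mem hz ht]
  let φ : D →* G := MonoidHom.mk' (fun d => (d : G)⁻¹ * cj g d) fun d d' => by
    rw [coe_mul, cj_mul, mul_inv_rev, mul_assoc, ← mul_assoc (d : G)⁻¹, ← mul_assoc,
      cm _ (inv_mem d'.2) _ (f5 _ d.2), mul_assoc]
  have g3 : ∀ n : ℕ, cj (g ^ (3 * n)) z = z := fun n => by
    induction n with
    | zero => simp [cj]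
    | succ n ih => rw [mul_add, mul_one, pow_add, ← cj_cj, pow_three, ← cj_cj, ← cj_cj, f1, f2, f3, ih]
  have dv : 3 ∣ orderOf g := by
    have e := pow_orderOf_eq_one g
    rw [← Nat.div_add_mod (orderOf g) 3, add_comm, pow_add] at e
    have e' := congrArg (cj · z) e
    simp only [← cj_cj, g3, cj_one] at e'
    refine Nat.dvd_of_mod_eq_zero ?_
    have : orderOf g % 3 < 3 := Nat.mod_lt _ three_pos
    interval_cases orderOf g % 3
    · rfl
    · exact absurd (f1.symm.trans (by rwa [pow_one] at e')) p.ne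
    · rw [pow_two, ← cj_cj, f1, f2] at e'
      exact absurd (by simpa using e') c'.bg.ne_one
  have o3 : orderOf (g ^ (orderOf g / 3)) = 3 := orderOf_pow_orderOf_div (orderOf_pos g).ne' dv
  have k1 : Nat.card φ.ker ≤ 4 := by
    rw [← card_map_of_injective D.subtype_injective]
    refine h.four _ o3 _ ⟨⟨⟨fun x y => Subtype.ext ?_⟩⟩, fun x hx => ?_⟩ ?_
    · exact cm _ (map_subtype_le _ x.2) _ (map_subtype_le _ y.2)
    · exact (pow_two x).trans (sq _ (map_subtype_le _ hx))
    · rintro _ ⟨d, hd, rfl⟩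
      have : cj g d = d := (inv_mul_eq_one.1 hd).symm
      exact mem_centralizer_singleton_iff.2 ((cj_eq_self_iff.1 this).pow_left _).symm.eq
  have k2 : Nat.card φ.range ≤ 4 := by
    refine le_trans (Set.ncard_le_ncard (s := (φ.range : Set G)) (t := {1, z, t, z * t}) ?_ (Set.toFinite _)) ?_
    · rintro _ ⟨d, rfl⟩
      exact f4 d d.2
    · refine (Set.ncard_insert_le _ _).trans (Nat.succ_le_succ ((Set.ncard_insert_le _ _).trans
        (Nat.succ_le_succ ((Set.ncard_insert_le _ _).trans (by simp)))))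
  rw [← φ.ker.card_mul_index, index_ker]
  exact Nat.mul_le_mul k1 k2

theorem exists_d (h : H3 G) (c : Co z τ π) (p : Pt z t) : ∃ d1 d2, ∀ v, Et z π t v → v ∈ els (π t) [d1, d2] := by
  classical
  obtain ⟨l, hl, e | ⟨e, k⟩⟩ := exists_can (π t) (Et z π t) 3
  · exfalso
    have ind : ∀ l, Can (π t) (Et z π t) l → Ind (π t) l := fun l hl => by
      induction l with
      | nil => exact c.pt_ne p
      | cons a l ih => exact ⟨hl.2.2.1, ih hl.1⟩
    choose f f1 f2 f3 using (c.sub_et p).els hl.mem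
    let F : (els (π t) l).toFinset × Bool → (QQ z ⊓ QQ t : Subgroup G) := fun y =>
      ⟨cond y.2 z 1 * f y.1 (List.mem_toFinset.1 y.1.2), by
        refine mul_mem ?_ ⟨f1 _ _, f2 _ _⟩
        cases y.2
        exacts [one_mem _, ⟨c.bg.z_mem, (c.symm p).mem⟩]⟩
    have hπ : ∀ y, π (F y) = y.1 := fun ⟨y, β⟩ => by
      cases β
      · exact (congrArg π (one_mul _)).trans (f3 _ _)
      · exact (c.z_mul (f1 _ _)).trans (f3 _ _)
    have inj : Function.Injective F := fun ⟨y, β⟩ ⟨y', β'⟩ e => by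
      obtain rfl : y = y' := Subtype.ext ((hπ (y, β)).symm.trans (by rw [e]; exact hπ (y', β')))
      have := mul_right_cancel (congrArg Subtype.val e)
      cases β <;> cases β'
      exacts [rfl, absurd this.symm c.bg.ne_one, absurd this c.bg.ne_one, rfl]
    have := (Nat.card_le_card_of_injective F inj).trans (card_D h c p)
    rw [Nat.card_prod, Nat.card_eq_fintype_card, Fintype.card_coe, List.toFinset_card_of_nodup (ind l hl).nodup,
      length_els, e, Nat.card_eq_fintype_card, Fintype.card_bool] at this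
    omega
  · match l, e, k with
    | [], _, k => exact ⟨0, 0, fun v hv => els_cons.2 (.inl (els_cons.2 (.inl (k v hv))))⟩
    | [a], _, k => exact ⟨0, a, fun v hv => els_cons.2 (.inl (k v hv))⟩
    | [a, b], _, k => exact ⟨a, b, k⟩
    | _ :: _ :: _ :: _, e, _ => simp at e; omega

theorem al (c : Co z τ π) (p : Pt z t) (hd : ∀ v, Et z π t v → v ∈ els (π t) [d1, d2]) (k : At z π t T) :
    Al (π t) d1 d2 T := by
  have i := c.at_iso k
  refine ⟨fun v v' hv hv' => ?_, fun v hv => ?_, fun v v' hv hv' h1 h2 => ?_⟩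
  · have := c.et_f p (c.at_et p k hv) (c.at_et p k hv')
    simp only [Bf, fb_add_left, fb_add_right, i.f, fb_comm v' v, fb_comm (T v') v] at this ⊢
    revert this
    cases fb v v' <;> cases fb (T v) v' <;> cases fb v (T v') <;> decide
  · have := c.et_q p (c.at_et p k hv)
    rw [qb_add, i.q] at this
    rw [Bf, fb_add_left, fb_self, fb_comm]
    revert this
    cases qb τ v <;> cases fb v (T v) <;> decide
  · refine Sub.els (S := (fb · v' = false)) ⟨zero_fb _, (fb_comm _ _).trans hv', (sub_perp v').add⟩ ?_ _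
      (hd _ (c.at_et p k hv))
    simp [fb_comm d1, fb_comm d2, h1, h2]

theorem bf_comp (c : Co z τ π) (p : Pt z t) (hd : ∀ v, Et z π t v → v ∈ els (π t) [d1, d2]) (k : At z π t S)
    (k' : At z π t T) (hv : fb v (π t) = false) (hv' : fb v' (π t) = false) :
    Bf (S ∘ T) v v' = (Bf S v v' ^^ Bf T v v') := by
  have e1 := c.at_et p k' hv
  have e2 := c.et_f p e1 (c.sub_et p).self
  have e3 : Bf S (v + T v) v' = false :=
    ((al c p hd k).symm _ _ e2 hv').trans (c.et_f p (c.at_et p k hv') e1)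
  simp only [Bf, fb_add_left, (c.at_iso k).add, Function.comp] at e3 ⊢
  revert e3
  cases fb v v' <;> cases fb (T v) v' <;> cases fb (S v) v' <;> cases fb (S (T v)) v' <;> decide

theorem nul3 (c : Co z τ π) (p : Pt z t) (hd : ∀ v, Et z π t v → v ∈ els (π t) [d1, d2]) (k : At z π t S)
    (k' : At z π t T) : Nul (π t) S ∨ Nul (π t) T ∨ Nul (π t) (S ∘ T) := by
  by_cases h1 : Nul (π t) S
  · exact .inl h1
  simp only [Nul, not_forall, Bool.not_eq_false] at h1
  obtain ⟨a, b, ha, hb, e⟩ := h1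
  have := fun v v' => (al c p hd k).val (v := v) (v' := v') (al c p hd k') ha hb e
  cases e' : Bf T a b
  · exact .inr (.inl fun v v' hv hv' => by simp [this v v' hv hv', e'])
  · exact .inr (.inr fun v v' hv hv' => by simp [bf_comp c p hd k k' hv hv', this v v' hv hv', e'])

theorem wt_of_nul (c : Co z τ π) (p : Pt z t) (k : At z π t T) (n : Nul (π t) T) (hu : fb u (π t) = true) :
    Wt z τ π t (u + T u) := by
  have i := c.at_iso k
  have e := c.at_fix p k
  have := i.f u (π t)
  obtain ⟨a, ha, k⟩ := k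
  exact ⟨by rw [e] at this; simp [fb_add_left, this], a, ha, k.congr (n.eq_rho i (c.pt_ne p) (c.pt_q p) e hu)⟩

theorem step (c : Co z τ π) (p : Pt z t) (hd : ∀ v, Et z π t v → v ∈ els (π t) [d1, d2]) {l : List V}
    (hl : l.length < 5) (k : ∀ v, Et z π t v → v ∈ els (π t) l) : ∃ w, Wt z τ π t w ∧ w ∉ els (π t) l := by
  obtain ⟨u, hu⟩ := exists_fb _ (c.pt_ne p)
  obtain ⟨v, hv, n1⟩ := exists_perp (c.pt_ne p) (l := l) (by omega)
  obtain ⟨v', hv', n2⟩ := exists_perp (c.pt_ne p) (l := v :: l) (by simp; omega)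
  rw [els_cons, not_or] at n2
  obtain ⟨S, hS, e1⟩ := c.exists_at p hv hu
  obtain ⟨T, hT, e2⟩ := c.exists_at p hv' hu
  have key : ∀ y w, y ∉ els (π t) l → Et z π t (y + w) → w ∉ els (π t) l := fun y w h1 h2 h3 =>
    h1 (by simpa using (sub_els _ l).add _ _ (k _ h2) h3)
  rcases nul3 c p hd hS hT with n | n | n
  · exact ⟨_, wt_of_nul c p hS n hu, key _ _ n1 e1⟩
  · exact ⟨_, wt_of_nul c p hT n hu, key _ _ n2.1 e2⟩
  · refine ⟨_, wt_of_nul c p (c.at_comp hS hT) n hu, key _ _ n2.2 ?_⟩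
    have e3 : fb (u + T u) (π t) = false := by
      have := (sub_perp _).add _ _ hv' (c.et_f p e2 (c.sub_et p).self)
      rwa [add_add_self] at this
    have e4 := (c.sub_et p).add _ _ ((c.sub_et p).add _ _ e1 e2) (c.at_et p hS e3)
    rw [(c.at_iso hS).add] at e4
    convert e4 using 1
    rw [← add_eq_zero_iff, Function.comp]
    generalize S (T u) = a
    generalize S u = b
    generalize T u = d
    have : v + v' + (u + a) + (v + (u + b) + (v' + (u + d)) + (u + d + (b + a))) =
      (v + v) + (v' + v') + (u + u) + (u + u) + (a + a) + (b + b) + (d + d) := by abel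
    simp [this]

end W4A

variable {G : Type*} [Group G] [Finite G] {z t : G} {τ : Bool} {π : G → W4.V}

theorem H3.exists_a2 (h : H3 G) (c : W4.Co z τ π) (p : W4.Pt z t) : ∃ (a : G) (w : W4.V), a ∉ QQ z ∧
    W4.qb τ w = false ∧ W4.fb w (π t) = false ∧ W4.Ac z π a (W4.rho τ (π t) w) := by
  obtain ⟨d1, d2, hd⟩ := W4A.exists_d h c p
  obtain ⟨w1, a1, n1⟩ := W4A.step c p hd (by simp) hd
  have hd1 := fun v hv => (W4.els_cons (a := w1)).2 (.inl (hd v hv))
  obtain ⟨w2, a2, n2⟩ := W4A.step c p hd (by simp) hd1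
  obtain ⟨w3, a3, n3⟩ := W4A.step c p hd (by simp) fun v hv => (W4.els_cons (a := w2)).2 (.inl (hd1 v hv))
  rw [W4.els_cons, W4.els_cons, W4.els_cons (v := w2 + w3), not_or, not_or, not_or] at n3
  rw [W4.els_cons, not_or, add_comm] at n2
  have s := (c.sub_wt p).add
  have fin : ∀ w, W4.Wt z τ π t w → w ∉ W4.els (π t) [d1, d2] → W4.qb τ w = false → ∃ (a : G) (w : W4.V),
      a ∉ QQ z ∧ W4.qb τ w = false ∧ W4.fb w (π t) = false ∧ W4.Ac z π a (W4.rho τ (π t) w) :=
    fun w ⟨h1, a, _, h2⟩ h3 h4 => ⟨a, w, fun e => h3 (by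
      rcases (c.mem_iff_of_rho p h2).1 e with rfl | rfl
      exacts [(W4.sub_els _ _).zero, (W4.sub_els _ _).self]), h4, h1, h2⟩
  rcases W4A.sing (τ := τ) w1 w2 w3 with e | e | e | e | e | e | e
  exacts [fin _ a1 n1 e, fin _ a2 n2.1 e, fin _ (s _ _ a2 a1) n2.2 e, fin _ a3 n3.1.1 e,
    fin _ (s _ _ a1 a3) n3.1.2 e, fin _ (s _ _ a2 a3) n3.2.1 e, fin _ (s _ _ a1 (s _ _ a2 a3)) n3.2.2 e]

end Cfsg.Agent.M23T
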