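import Mathlib
import Cfsg.Agent.M23T.Defs
import Cfsg.Agent.W4.P
import Cfsg.Agent.GT.Zipper
import Cfsg.Agent.GT.Cores

/-! An element acting on `Q / ⟨z⟩` as an Eichler transformation with singular parameter lies in `Q`. -/

set_option autoImplicit false

namespace Cfsg.Agent.M23T

open Subgroup Cfsg.Agent.GT Cfsg.Agent.LX Cfsg.Agent.Gr6

namespace W4b

open Cfsg.Agent.W4 Cfsg.Agent.Spor Cfsg.Agent.Spor.TT

/-- Four bits. -/
abbrev B4 : Type := Bool × Bool × Bool × Bool

/-- A vector plus a combination of four vectors. -/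
def ev (x w x' w' v : V) (c : B4) : V := v + sm c.1 x + sm c.2.1 w + sm c.2.2.1 x' + sm c.2.2.2 w'

/-- The first transformation on coefficients. -/
def s1 (g b c : B4) : B4 :=
  (c.1 ^^ (b.2.1 ^^ (c.2.2.1 && g.2.1) ^^ (c.2.2.2 && g.2.2.2)),
    c.2.1 ^^ (b.1 ^^ (c.2.2.1 && g.1) ^^ (c.2.2.2 && g.2.2.1)), c.2.2.1, c.2.2.2)

/-- The second transformation on coefficients. -/
def s2 (g b c : B4) : B4 :=
  (c.1, c.2.1, c.2.2.1 ^^ (b.2.2.2 ^^ (c.1 && g.2.2.1) ^^ (c.2.1 && g.2.2.2)),
    c.2.2.2 ^^ (b.2.2.1 ^^ (c.1 && g.1) ^^ (c.2.1 && g.2.1)))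

theorem it12 : ∀ g b : B4, (s1 g b ∘ s2 g b)^[12] (false, false, false, false) = (false, false, false, false) := by
  decide +kernel

variable {τ : Bool} {x w x' w' : V}

theorem rho_ev (hw : qb τ w = false) (h : fb w x = false) (v : V) (c : B4) :
    rho τ x w (ev x w x' w' v c) = ev x w x' w' v
      (s1 (fb x' x, fb x' w, fb w' x, fb w' w) (fb v x, fb v w, fb v x', fb v w') c) := by
  have h1 := (fb_comm x w).trans h
  simp only [rho, ev, s1, fb_add_left, fb_sm_left, hw, h, h1, fb_self, Bool.and_false, Bool.false_and,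
    Bool.xor_false, sm_xor]
  abel

theorem rho_ev' (hw : qb τ w' = false) (h : fb w' x' = false) (v : V) (c : B4) :
    rho τ x' w' (ev x w x' w' v c) = ev x w x' w' v
      (s2 (fb x' x, fb x' w, fb w' x, fb w' w) (fb v x, fb v w, fb v x', fb v w') c) := by
  have h1 := (fb_comm x' w').trans h
  simp only [rho, ev, s2, fb_add_left, fb_sm_left, hw, h, h1, fb_self, Bool.and_false, Bool.false_and,
    Bool.xor_false, sm_xor, fb_comm x x', fb_comm x w', fb_comm w x', fb_comm w w']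
  abel

theorem iter12 (hw : qb τ w = false) (h : fb w x = false) (hw' : qb τ w' = false) (h' : fb w' x' = false) (v : V) :
    (rho τ x w ∘ rho τ x' w')^[12] v = v := by
  have k : Function.Semiconj (ev x w x' w' v)
      (s1 (fb x' x, fb x' w, fb w' x, fb w' w) (fb v x, fb v w, fb v x', fb v w') ∘
        s2 (fb x' x, fb x' w, fb w' x, fb w' w) (fb v x, fb v w, fb v x', fb v w')) (rho τ x w ∘ rho τ x' w') :=
    fun c => by rw [Function.comp, Function.comp, rho_ev' hw' h', rho_ev hw h]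
  have := k.iterate_right 12 (false, false, false, false)
  rw [it12] at this
  simpa [ev] using this.symm

variable {G : Type*} [Group G] {z g y : G} {π : G → V} {S : V → V}

theorem ac_pow (c : Co z τ π) (k : Ac z π g S) (n : ℕ) : Ac z π (g ^ n) S^[n] := by
  induction n with
  | zero => simpa using c.ac_mem (one_mem _)
  | succ n ih => rw [pow_succ, Function.iterate_succ]; exact c.ac_mul ih k

theorem comm_of_fix (c : Co z τ π) (k : Ac z π y S) (h3 : y ^ 3 = 1) {q : G} (hq : q ∈ QQ z)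
    (e : S (π q) = π q) : Commute y q := by
  refine cj_eq_self_iff.1 (((c.fix_iff k hq).1 e).resolve_right fun e' => c.bg.ne_one ?_)
  have h1 : cj y z = z := cj_of_commute k.1.symm
  have h2 : cj (y ^ 3) q = z * q := by
    rw [pow_succ, pow_two, ← cj_cj, ← cj_cj, e', cj_mul, h1, e', ← mul_assoc, c.zz, one_mul, e']
  rw [h3, cj_one] at h2
  simpa using h2.symm

theorem big [Finite G] (c : Co z τ π) (k : Ac z π y S) (h3 : y ^ 3 = 1)
    (e : ∀ v, fb v x = false → fb v w = false → fb v x' = false → fb v w' = false → S v = v) :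
    8 < Nat.card (QQ z ⊓ centralizer ({y} : Set G) : Subgroup G) := by
  classical
  obtain ⟨b, hb⟩ := Fintype.exists_lt_card_fiber_of_mul_lt_card
    (fun v : V => ((fb v x, fb v w, fb v x', fb v w') : B4)) (n := 8)
    (by rw [← Nat.card_eq_fintype_card (α := V), card_V]; decide)
  obtain ⟨u, hu⟩ := Finset.card_pos.1 (Nat.zero_lt_of_lt hb)
  choose l h1 h2 using c.surj
  have hm : ∀ v ∈ Finset.univ.filter fun v : V => ((fb v x, fb v w, fb v x', fb v w') : B4) = b,
      l (v + u) ∈ (QQ z ⊓ centralizer ({y} : Set G) : Subgroup G) := fun v hv => by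
    have h4 := (Finset.mem_filter.1 hv).2.trans (Finset.mem_filter.1 hu).2.symm
    simp only [Prod.mk.injEq] at h4
    refine ⟨h1 _, mem_centralizer_singleton_iff.2 (comm_of_fix c k h3 (h1 _) ?_).symm⟩
    rw [h2]
    refine e _ ?_ ?_ ?_ ?_ <;> simp [fb_add_left, h4]
  refine hb.trans_le ?_
  rw [← Nat.card_eq_finsetCard]
  refine Nat.card_le_card_of_injective (fun v => ⟨_, hm v.1 v.2⟩) fun v v' h => Subtype.ext ?_
  have := congrArg π (congrArg Subtype.val h)
  simpa only [h2, add_left_inj] using this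

theorem pow16 [Finite G] {a a' : G} (f : Fn z) (c : Co z τ π) (hw : qb τ w = false) (h : fb w x = false)
    (hw' : qb τ w' = false) (h' : fb w' x' = false) (ha : Ac z π a (rho τ x w)) (ha' : Ac z π a' (rho τ x' w')) :
    (a * a') ^ 16 = 1 := by
  by_contra hn
  have k := c.ac_mul ha ha'
  have h3 : ((a * a') ^ 16) ^ 3 = 1 := by
    rw [← pow_mul, show 16 * 3 = 12 * 4 from rfl, pow_mul]
    exact c.bg.lg.aes.pow_four (c.mem_of_ac (ac_pow c k 12) (iter12 hw h hw' h'))
  have k16 := ac_pow c k 16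
  refine (f.le8 _ (orderOf_eq_prime h3 hn) k16.1).not_gt (big (x := x) (w := w) (x' := x') (w' := w') c k16 h3
    fun v h1 h2 h3 h4 => Function.iterate_fixed ?_ 16)
  simp [rho, h1, h2, h3, h4]

end W4b

variable {G : Type*} [Group G] [Finite G] {z a : G} {τ : Bool} {π : G → W4.V} {x w : W4.V}

theorem Fn.no_a2 (f : Fn z) (c : W4.Co z τ π) (hx : W4.qb τ x = false) (hw : W4.qb τ w = false)
    (hxw : W4.fb w x = false) (ha : W4.Ac z π a (W4.rho τ x w)) : a ∈ QQ z := by
  have _ := hx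
  have hm : ∀ {g : G}, g ∈ centralizer ({z} : Set G) ↔ Commute z g := Spor.mem_centralizer_singleton
  let C := centralizer ({z} : Set G)
  let m := QuotientGroup.mk' (pCore 2 C)
  have hk : ∀ g : C, m g = 1 ↔ (g : G) ∈ QQ z := fun g => by
    rw [QuotientGroup.mk'_apply, QuotientGroup.eq_one_iff]
    exact ⟨fun h => ⟨g, h, rfl⟩, fun ⟨u, h, e⟩ => (Subtype.ext e : u = g) ▸ h⟩
  have haa : m ⟨a, hm.2 ha.1⟩ * m ⟨a, hm.2 ha.1⟩ = 1 := by
    rw [← map_mul, hk]
    exact c.mem_of_ac (c.ac_mul ha ha) fun v => by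
      rw [Function.comp, W4.rho_rho hxw hxw, W4.add_self, W4.rho_zero]
  have : m ⟨a, hm.2 ha.1⟩ ∈ pCore 2 (C ⧸ pCore 2 C) := baer_suzuki_elem fun g => by
    obtain ⟨g, rfl⟩ := QuotientGroup.mk'_surjective _ g
    refine isPGroup_two_closure_of_involutions haa (by
      rw [conj_mul, haa, mul_one, mul_inv_cancel]) ?_
    obtain ⟨T, k⟩ := c.exists_ac (hm.1 g.2)
    have i := c.iso k
    have h16 := W4b.pow16 f c hw hxw ((i.q w).trans hw) ((i.f w x).trans hxw) ha (c.ac_cj k ha (i.rho x w))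
    have h17 : (m ⟨a, hm.2 ha.1⟩ * (m g * m ⟨a, hm.2 ha.1⟩ * (m g)⁻¹)) ^ 2 ^ 4 = 1 := by
      rw [← map_inv, ← map_mul, ← map_mul, ← map_mul, ← map_pow, hk]
      change (a * Spor.TT.cj (g : G) a) ^ 16 ∈ QQ z
      rw [h16]
      exact one_mem _
    rintro ⟨_, n, rfl⟩
    refine ⟨4, Subtype.ext ?_⟩
    rw [SubmonoidClass.coe_pow, ← zpow_natCast, ← zpow_mul, mul_comm n, zpow_mul, zpow_natCast, h17, one_zpow]
    rfl
  rwa [pCore_quotient_pCore, mem_bot, hk] at this

end Cfsg.Agent.M23T
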